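import Cfsg.Agent.H173.NumDat

/-!
# The numbers of data of conjugacy classes of orthogonal and symplectic groups in characteristic two (helper173)

`card_dat_two` (N1), `card_dat` (N2), `card_dat_free` (N3), `card_dat_sp` (N4), `finite_dat`.
-/

set_option autoImplicit false

namespace Cfsg.Agent.H173.Num

open Polynomial Cfsg.Agent.H170 Cfsg.Agent.H171

section Numeric

theorem inv_one_sub_le {a b : ℚ} (hab : a ≤ b) (hb : b < 1) : 1 / (1 - a) ≤ 1 / (1 - b) :=
  one_div_le_one_div_of_le (by linarith) (by linarith)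

/-- monotonicity in `u` -/
theorem al_mono (c : Bool) {u v : ℚ} (h0 : 0 ≤ u) (huv : u ≤ v) (hv : v < 1) (k : ℕ) :
    (al c u k).1 ≤ (al c v k).1 ∧ (al c u k).2 ≤ (al c v k).2 := by
  have hg : ∀ m : ℕ, 0 < m → 1 / (1 - u ^ m) ≤ 1 / (1 - v ^ m) := by
    intro m hm
    apply inv_one_sub_le (pow_le_pow_left₀ h0 huv m)
    exact pow_lt_one₀ (h0.trans huv) hv hm.ne'
  have hg0 : ∀ m : ℕ, 0 ≤ 1 / (1 - u ^ m) := by
    intro m
    apply div_nonneg zero_le_one
    have := pow_le_one₀ (n := m) h0 (huv.trans hv.le)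
    linarith
  have hp : ∀ m : ℕ, u ^ m ≤ v ^ m := fun m => pow_le_pow_left₀ h0 huv m
  have hv0 : 0 ≤ v := h0.trans huv
  induction k with
  | zero =>
    have h1 := hg 1 one_pos
    have h2 := hg0 1
    rw [pow_one] at h1 h2
    rw [pow_one] at h1
    have hc : 0 ≤ cond c 0 u := by cases c <;> simp [h0]
    have hc' : cond c 0 u ≤ cond c 0 v := by cases c <;> simp [huv]
    have hd : 0 ≤ cond c 0 (u + u ^ 2) := by
      cases c
      · simp; positivity
      · simp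
    have hp2 := hp 2
    have hd' : cond c 0 (u + u ^ 2) ≤ cond c 0 (v + v ^ 2) := by
      cases c
      · simp; linarith
      · simp
    constructor
    · unfold al
      apply mul_le_mul (by linarith) h1 h2 (by linarith)
    · unfold al
      apply mul_le_mul (by linarith) h1 h2
      have : 0 ≤ v ^ 2 := by positivity
      linarith
  | succ k ih =>
    obtain ⟨i1, i2⟩ := ih
    obtain ⟨n1, n2⟩ := al_nonneg c h0 (huv.trans_lt hv) k
    obtain ⟨m1, m2⟩ := al_nonneg c hv0 hv k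
    have g1 := hg (2 * k + 2) (by omega)
    have g2 := hg (2 * k + 3) (by omega)
    have g10 := hg0 (2 * k + 2)
    have g20 := hg0 (2 * k + 3)
    have g11 := g10.trans g1
    have g21 := g20.trans g2
    have p1 := hp (2 * k + 3)
    have p2 := hp (k + 2)
    have p3 := hp (2 * k + 4)
    constructor
    · rw [al, al]
      dsimp only
      gcongr
    · rw [al, al]
      dsimp only
      gcongr

/-- the total -/
def tot (c : Bool) (u : ℚ) (k : ℕ) : ℚ := (al c u k).1 + (al c u k).2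

theorem tot_mono (c : Bool) {u v : ℚ} (h0 : 0 ≤ u) (huv : u ≤ v) (hv : v < 1) (k : ℕ) : tot c u k ≤ tot c v k := by
  have := al_mono c h0 huv hv k
  unfold tot
  linarith [this.1, this.2]

theorem tot_nonneg (c : Bool) {u : ℚ} (h0 : 0 ≤ u) (h1 : u < 1) (k : ℕ) : 0 ≤ tot c u k := by
  have := al_nonneg c h0 h1 k
  unfold tot
  linarith [this.1, this.2]

theorem one_le_inv {x : ℚ} (h0 : 0 ≤ x) (h1 : x < 1) : 1 ≤ 1 / (1 - x) := by
  rw [le_div_iff₀ (by linarith)]; linarith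

theorem tot_le_succ (c : Bool) {u : ℚ} (h0 : 0 ≤ u) (h1 : u < 1) (k : ℕ) : tot c u k ≤ tot c u (k + 1) := by
  obtain ⟨n1, n2⟩ := al_nonneg c h0 h1 k
  have g1 := one_le_inv (x := u ^ (2 * k + 2)) (by positivity) (pow_lt_one₀ h0 h1 (by omega))
  have g2 := one_le_inv (x := u ^ (2 * k + 3)) (by positivity) (pow_lt_one₀ h0 h1 (by omega))
  have h2 := (al_nonneg c h0 h1 (k + 1)).2
  unfold tot
  have h3 : (al c u k).1 + (al c u k).2 ≤ (al c u (k + 1)).1 := by
    rw [al]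
    dsimp only
    have h4 : (al c u k).1 + (al c u k).2 ≤ (al c u k).1 * (1 + u ^ (2 * k + 3)) + (al c u k).2 := by
      have : 0 ≤ (al c u k).1 * u ^ (2 * k + 3) := by positivity
      linarith
    have h5 : 0 ≤ (al c u k).1 + (al c u k).2 := by linarith
    calc (al c u k).1 + (al c u k).2 = ((al c u k).1 + (al c u k).2) * 1 * 1 := by ring
      _ ≤ _ := by
        gcongr
  linarith

theorem tot_le_of_le (c : Bool) {u : ℚ} (h0 : 0 ≤ u) (h1 : u < 1) {k l : ℕ} (hkl : k ≤ l) : tot c u k ≤ tot c u l := by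
  induction hkl with
  | refl => exact le_rfl
  | step _ ih => exact ih.trans (tot_le_succ c h0 h1 _)

theorem tot_succ_le (c : Bool) {u : ℚ} (h0 : 0 ≤ u) (h1 : u < 1) (k : ℕ) : tot c u (k + 1) ≤
    tot c u k * (1 + u ^ (2 * k + 3) + 2 * (u ^ (k + 2) + u ^ (2 * k + 4))) *
      (1 / (1 - u ^ (2 * k + 2))) * (1 / (1 - u ^ (2 * k + 3))) := by
  obtain ⟨n1, n2⟩ := al_nonneg c h0 h1 k
  have g1 : 0 ≤ 1 / (1 - u ^ (2 * k + 2)) :=
    zero_le_one.trans (one_le_inv (x := u ^ (2 * k + 2)) (by positivity) (pow_lt_one₀ h0 h1 (by omega)))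
  have g2 : 0 ≤ 1 / (1 - u ^ (2 * k + 3)) :=
    zero_le_one.trans (one_le_inv (x := u ^ (2 * k + 3)) (by positivity) (pow_lt_one₀ h0 h1 (by omega)))
  unfold tot
  rw [al]
  dsimp only
  rw [← add_mul, ← add_mul]
  apply mul_le_mul_of_nonneg_right _ g2
  apply mul_le_mul_of_nonneg_right _ g1
  have h2 : 0 ≤ (al c u k).2 * u ^ (2 * k + 3) := by positivity
  have h3 : 0 ≤ (al c u k).2 * (u ^ (k + 2) + u ^ (2 * k + 4)) := by positivity
  nlinarith

/-- the tail: `tot k * (1 + γ u^(k+1))` does not increase -/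
theorem tail (c : Bool) {u γ : ℚ} (h0 : 0 < u) (h1 : u < 1) (hγ : 0 ≤ γ) (k0 : ℕ)
    (h : ∀ x : ℚ, 0 ≤ x → x ≤ u ^ (k0 + 1) →
      (1 + x ^ 2 * u + 2 * (x * u + x ^ 2 * u ^ 2)) * (1 + γ * (x * u)) ≤ (1 + γ * x) * (1 - x ^ 2) * (1 - x ^ 2 * u))
    {k : ℕ} (hk : k0 ≤ k) : tot c u k * (1 + γ * u ^ (k + 1)) ≤ tot c u k0 * (1 + γ * u ^ (k0 + 1)) := by
  induction k, hk using Nat.le_induction with
  | base => exact le_rfl
  | succ k hk ih =>
    refine le_trans ?_ ih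
    have h2 := tot_succ_le c h0.le h1 k
    have hx := h (u ^ (k + 1)) (by positivity) (pow_le_pow_of_le_one h0.le h1.le (by omega))
    have e1 : u ^ (2 * k + 3) = (u ^ (k + 1)) ^ 2 * u := by ring
    have e2 : u ^ (k + 2) = u ^ (k + 1) * u := by ring
    have e3 : u ^ (2 * k + 4) = (u ^ (k + 1)) ^ 2 * u ^ 2 := by ring
    have e4 : u ^ (2 * k + 2) = (u ^ (k + 1)) ^ 2 := by ring
    have e5 : u ^ (k + 1 + 1) = u ^ (k + 1) * u := by ring
    rw [e1, e2, e3, e4] at h2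
    rw [e5]
    set x := u ^ (k + 1) with hxdef
    have hx0 : 0 < x := by positivity
    have hx1 : x < 1 := pow_lt_one₀ h0.le h1 (by omega)
    have hT := tot_nonneg c h0.le h1 k
    have d1 : 0 < 1 - x ^ 2 := by nlinarith
    have d2 : 0 < 1 - x ^ 2 * u := by nlinarith [mul_pos hx0 hx0]
    calc tot c u (k + 1) * (1 + γ * (x * u))
        ≤ (tot c u k * (1 + x ^ 2 * u + 2 * (x * u + x ^ 2 * u ^ 2)) * (1 / (1 - x ^ 2)) * (1 / (1 - x ^ 2 * u))) *
          (1 + γ * (x * u)) := mul_le_mul_of_nonneg_right h2 (by positivity)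
      _ = tot c u k * ((1 + x ^ 2 * u + 2 * (x * u + x ^ 2 * u ^ 2)) * (1 + γ * (x * u))) *
          (1 / ((1 - x ^ 2) * (1 - x ^ 2 * u))) := by
        rw [← one_div_mul_one_div (1 - x ^ 2)]; ring
      _ ≤ tot c u k * ((1 + γ * x) * (1 - x ^ 2) * (1 - x ^ 2 * u)) * (1 / ((1 - x ^ 2) * (1 - x ^ 2 * u))) := by
        gcongr
      _ = tot c u k * (1 + γ * x) := by
        field_simp

theorem tot_le (c : Bool) {u γ B : ℚ} (h0 : 0 < u) (h1 : u < 1) (hγ : 0 ≤ γ) (k0 : ℕ)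
    (h : ∀ x : ℚ, 0 ≤ x → x ≤ u ^ (k0 + 1) →
      (1 + x ^ 2 * u + 2 * (x * u + x ^ 2 * u ^ 2)) * (1 + γ * (x * u)) ≤ (1 + γ * x) * (1 - x ^ 2) * (1 - x ^ 2 * u))
    (hB : tot c u k0 * (1 + γ * u ^ (k0 + 1)) ≤ B) (k : ℕ) : tot c u k ≤ B := by
  have h2 := tail c h0 h1 hγ k0 h (le_max_right k k0)
  have h3 := tot_le_of_le c h0.le h1 (le_max_left k k0)
  have h4 := tot_nonneg c h0.le h1 (max k k0)
  have h5 : 0 ≤ tot c u (max k k0) * (γ * u ^ (max k k0 + 1)) := by positivity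
  nlinarith

theorem half_tail (x : ℚ) (h0 : 0 ≤ x) (h1 : x ≤ (1 / 2 : ℚ) ^ (6 + 1)) :
    (1 + x ^ 2 * (1 / 2) + 2 * (x * (1 / 2) + x ^ 2 * (1 / 2) ^ 2)) * (1 + 21 / 10 * (x * (1 / 2))) ≤
      (1 + 21 / 10 * x) * (1 - x ^ 2) * (1 - x ^ 2 * (1 / 2)) := by
  norm_num at h1
  have h2 : x ^ 2 ≤ x * (1 / 128) := by nlinarith
  have h3 : x ^ 3 ≤ x * (1 / 16384) := by nlinarith [mul_nonneg h0 h0]
  have h4 : 0 ≤ x ^ 4 := by positivity
  have h5 : 0 ≤ x ^ 5 := by positivity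
  nlinarith

theorem quarter_tail (x : ℚ) (h0 : 0 ≤ x) (h1 : x ≤ (1 / 4 : ℚ) ^ (2 + 1)) :
    (1 + x ^ 2 * (1 / 4) + 2 * (x * (1 / 4) + x ^ 2 * (1 / 4) ^ 2)) * (1 + 1 * (x * (1 / 4))) ≤
      (1 + 1 * x) * (1 - x ^ 2) * (1 - x ^ 2 * (1 / 4)) := by
  norm_num at h1
  have h2 : x ^ 2 ≤ x * (1 / 64) := by nlinarith
  have h3 : x ^ 3 ≤ x * (1 / 4096) := by nlinarith [mul_nonneg h0 h0]
  have h4 : 0 ≤ x ^ 4 := by positivity
  have h5 : 0 ≤ x ^ 5 := by positivity
  nlinarith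

theorem tot_half_false (k : ℕ) : tot false (1 / 2) k ≤ 256 / 10 := by
  refine tot_le false (γ := 21 / 10) (by norm_num) (by norm_num) (by norm_num) 6 half_tail ?_ k
  norm_num [tot, al]

theorem tot_half_true (k : ℕ) : tot true (1 / 2) k ≤ 76 / 5 := by
  refine tot_le true (γ := 21 / 10) (by norm_num) (by norm_num) (by norm_num) 6 half_tail ?_ k
  norm_num [tot, al]

theorem tot_quarter (k : ℕ) : tot false (1 / 4) k ≤ 4 := by
  refine tot_le false (γ := 1) (by norm_num) (by norm_num) (by norm_num) 2 quarter_tail ?_ k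
  norm_num [tot, al]

end Numeric

section Free

variable {F : Type*} [Field F]

/-- data without signs and without `b` -/
def SR (F : Type*) [Field F] (J n : ℕ) : Set (Dat F) :=
  {D | Pd J 1 n D ∧ (∀ j, Odd j → D.a j = 0) ∧ ∀ k, D.b k = 0}

theorem SR_one (m : ℕ) : SR F 1 m ⊆ (if m = 0 then {D0 F} else ∅ : Set (Dat F)) := by
  rintro D ⟨hD, -, -⟩
  obtain ⟨h1, h2⟩ := pd_one hD
  rw [if_pos h2, h1]
  rfl

theorem stepR (J n : ℕ) : SR F (J + 1) n ⊆ Step F (SR F J) (rec1 J 1 0 false 0 false) J 0 n := by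
  rintro D ⟨hD, ha, hb⟩
  obtain ⟨m, hm, hsz⟩ := hD.succK.res
  have hs : D.s J = false := by
    by_contra h
    obtain ⟨h1, h2, -⟩ := hD.s_imp J (by simpa using h)
    rw [ha J h1] at h2
    exact absurd h2 (lt_irrefl 0)
  have ht : D.t 1 = false := by
    by_contra h
    have := (hD.t_imp _ (by simpa using h)).1
    rw [hb] at this
    exact absurd this (lt_irrefl 0)
  have heq := eq_upd_res J 1 D
  rw [hs, hb 1, ht] at heq
  rw [hb 1, mul_zero, add_zero] at hsz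
  refine ⟨_, m, by omega, res J 1 D, ⟨hm, ?_, ?_⟩, _, hD.mem_pairs J, heq⟩
  · intro j hj
    by_cases hjJ : j = J
    · subst hjJ; simp [res, upd]
    · simp [res, upd, hjJ, ha j hj]
  · intro k
    by_cases hk : k = 1
    · subst hk; simp [res, upd]
    · simp [res, upd, hk, hb k]

/-- the product -/
def pr (u : ℚ) : ℕ → ℚ
  | 0 => 1
  | k + 1 => pr u k * (1 / (1 - u ^ (k + 1)))

theorem pr_pos {u : ℚ} (h0 : 0 ≤ u) (h1 : u < 1) (k : ℕ) : 0 < pr u k := by
  induction k with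
  | zero => exact one_pos
  | succ k ih =>
    rw [pr]
    exact mul_pos ih (lt_of_lt_of_le one_pos (one_le_inv (by positivity) (pow_lt_one₀ h0 h1 (by omega))))

theorem pr_le_succ {u : ℚ} (h0 : 0 ≤ u) (h1 : u < 1) (k : ℕ) : pr u k ≤ pr u (k + 1) := by
  rw [pr]
  have h2 := one_le_inv (x := u ^ (k + 1)) (by positivity) (pow_lt_one₀ h0 h1 (by omega))
  have h3 := pr_pos h0 h1 k
  nlinarith

theorem pr_le_of_le {u : ℚ} (h0 : 0 ≤ u) (h1 : u < 1) {k l : ℕ} (hkl : k ≤ l) : pr u k ≤ pr u l := by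
  induction hkl with
  | refl => exact le_rfl
  | step _ ih => exact ih.trans (pr_le_succ h0 h1 _)

/-- the product for `u = 1 / 2` -/
theorem pr_half (k : ℕ) : pr (1 / 2) k ≤ 347 / 100 := by
  have h : ∀ k, 8 ≤ k → pr (1 / 2) k * (1 + 101 / 100 * (1 / 2 : ℚ) ^ k) ≤
      pr (1 / 2) 8 * (1 + 101 / 100 * (1 / 2 : ℚ) ^ 8) := by
    intro k hk
    induction k, hk using Nat.le_induction with
    | base => exact le_rfl
    | succ k hk ih =>
      refine le_trans ?_ ih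
      rw [pr]
      have hx : (1 / 2 : ℚ) ^ k ≤ (1 / 2) ^ 8 := pow_le_pow_of_le_one (by norm_num) (by norm_num) hk
      have hx0 : 0 < (1 / 2 : ℚ) ^ k := by positivity
      rw [pow_succ]
      set x := (1 / 2 : ℚ) ^ k
      have hp := pr_pos (u := 1 / 2) (by norm_num) (by norm_num) k
      norm_num at hx
      have d1 : 0 < 1 - x * (1 / 2) := by linarith
      rw [mul_assoc]
      apply mul_le_mul_of_nonneg_left _ hp.le
      rw [div_mul_eq_mul_div, one_mul, div_le_iff₀ d1]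
      nlinarith
  have h1 := h (max k 8) (le_max_right _ _)
  have h2 := pr_le_of_le (u := 1 / 2) (by norm_num) (by norm_num) (le_max_left k 8)
  have h3 := pr_pos (u := 1 / 2) (by norm_num) (by norm_num) (max k 8)
  have h4 : 0 ≤ pr (1 / 2) (max k 8) * (101 / 100 * (1 / 2 : ℚ) ^ (max k 8)) := by positivity
  have h5 : pr (1 / 2) 8 * (1 + 101 / 100 * (1 / 2 : ℚ) ^ 8) ≤ 347 / 100 := by norm_num [pr]
  nlinarith

theorem boundR [Finite F] (u : ℚ) (hu : u = 1 / (Nat.card F : ℚ)) (k : ℕ) : ∀ n,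
    B1 (Nat.card F) n (SR F (k + 2) n) (pr u k) := by
  have hq1 : 1 < Nat.card F := Finite.one_lt_card
  have hq0 : (0 : ℚ) < Nat.card F := by exact_mod_cast (by omega : 0 < Nat.card F)
  have hu0 : 0 < u := by rw [hu]; positivity
  have hu1 : u < 1 := by rw [hu, div_lt_one hq0]; exact_mod_cast hq1
  induction k with
  | zero =>
    intro n
    have e1 := step_one_B1 (F := F) (rec1 1 1 0 false 0 false) 0 n u hu SR_one
    rw [pow_zero] at e1
    exact e1.subset (stepR 1 n)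
  | succ k ih =>
    intro n
    refine (B1.subset (step_B1 (pr_pos hu0.le hu1 k).le ih _ (k + 2) 0 n (by omega) u hu)
      (stepR (k + 2) n)).mono (le_of_eq ?_)
    rw [pr, pow_zero, mul_one, show k + 2 - 1 = k + 1 by omega]

theorem card_free_le [Finite F] (u : ℚ) (hu : u = 1 / (Nat.card F : ℚ)) (n : ℕ) :
    (Nat.card {D : Dat F // D.Ok n ∧ (∀ j, Odd j → D.a j = 0) ∧ ∀ k, D.b k = 0} : ℚ) ≤
      pr u n * (Nat.card F : ℚ) ^ n := by
  have h := boundR (F := F) u hu n n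
  have hsub : {D : Dat F | D.Ok n ∧ (∀ j, Odd j → D.a j = 0) ∧ ∀ k, D.b k = 0} ⊆ SR F (n + 2) n := by
    rintro D ⟨hD, ha, hb⟩
    have h1 := Pd.of_ok hD (show n < n + 2 by omega) (show n < n + 1 by omega)
    refine ⟨?_, ha, hb⟩
    refine { h1 with bigb := fun k _ => hb k, size := ?_ }
    have h2 := h1.size
    have e1 : ∀ K : ℕ, ∑ k ∈ Finset.range K, k * D.b k = 0 := fun K =>
      Finset.sum_eq_zero fun k _ => by rw [hb, mul_zero]
    rw [e1] at h2 ⊢
    exact h2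
  exact (B1.subset h hsub).2

end Free

section Main

variable {F : Type*} [Field F] [Finite F]

omit [Finite F] in
theorem ok_ex_false (n : ℕ) (D : Dat F) : D.Ok n ↔ D.Ok n ∧ ex false D :=
  ⟨fun h => ⟨h, fun h' => absurd h' (by simp)⟩, fun h => h.1⟩

/-- finiteness of the set of normal forms -/
theorem finite_dat (n : ℕ) : Finite {D : Dat F // D.Ok n} := by
  have := (card_ok_le (F := F) false _ rfl n).1
  exact Finite.of_equiv _ (Equiv.subtypeEquivRight fun D => (ok_ex_false n D).symm)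

theorem card_dat_le (n : ℕ) : (Nat.card {D : Dat F // D.Ok n} : ℚ) ≤
    tot false (1 / (Nat.card F : ℚ)) n * (Nat.card F : ℚ) ^ n := by
  have := (card_ok_le (F := F) false _ rfl n).2
  rw [Nat.card_congr (Equiv.subtypeEquivRight fun D => ok_ex_false n D)]
  exact this

/-- **(N1)** -/
theorem card_dat_two (h : Nat.card F = 2) (n : ℕ) : 10 * Nat.card {D : Dat F // D.Ok n} ≤ 256 * 2 ^ n := by
  have h1 := card_dat_le (F := F) n
  rw [h] at h1
  have h2 := tot_half_false n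
  have h3 : ((10 * Nat.card {D : Dat F // D.Ok n} : ℕ) : ℚ) ≤ ((256 * 2 ^ n : ℕ) : ℚ) := by
    push_cast at h1 ⊢
    have h4 : (0 : ℚ) < 2 ^ n := by positivity
    nlinarith
  exact_mod_cast h3

/-- **(N2)** -/
theorem card_dat (h : 4 ≤ Nat.card F) (n : ℕ) : Nat.card {D : Dat F // D.Ok n} ≤ 15 * Nat.card F ^ n := by
  have h1 := card_dat_le (F := F) n
  have hq : (4 : ℚ) ≤ Nat.card F := by exact_mod_cast h
  have hu0 : (0 : ℚ) ≤ 1 / (Nat.card F : ℚ) := by positivity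
  have hu : 1 / (Nat.card F : ℚ) ≤ 1 / 4 := one_div_le_one_div_of_le (by norm_num) hq
  have h2 := (tot_mono false hu0 hu (by norm_num) n).trans (tot_quarter n)
  have h3 : ((Nat.card {D : Dat F // D.Ok n} : ℕ) : ℚ) ≤ ((15 * Nat.card F ^ n : ℕ) : ℚ) := by
    push_cast
    have h4 : (0 : ℚ) < (Nat.card F : ℚ) ^ n := by positivity
    nlinarith
  exact_mod_cast h3

/-- **(N3)** -/
theorem card_dat_free (h : Nat.card F = 2) (n : ℕ) :
    100 * Nat.card {D : Dat F // D.Ok n ∧ (∀ j, Odd j → D.a j = 0) ∧ ∀ k, D.b k = 0} ≤ 347 * 2 ^ n := by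
  have h1 := card_free_le (F := F) _ rfl n
  rw [h] at h1
  have h2 := pr_half n
  have h3 : ((100 * Nat.card {D : Dat F // D.Ok n ∧ (∀ j, Odd j → D.a j = 0) ∧ ∀ k, D.b k = 0} : ℕ) : ℚ) ≤
      ((347 * 2 ^ n : ℕ) : ℚ) := by
    push_cast at h1 ⊢
    have h4 : (0 : ℚ) < 2 ^ n := by positivity
    nlinarith
  exact_mod_cast h3

/-- **(N4)** -/
theorem card_dat_sp (n : ℕ) :
    5 * Nat.card {D : Dat F // D.Ok n ∧ D.s 1 = false ∧ D.t 1 = false} ≤ 76 * Nat.card F ^ n := by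
  have h1 := (card_ok_le (F := F) true _ rfl n).2
  have e : Nat.card {D : Dat F // D.Ok n ∧ ex true D} =
      Nat.card {D : Dat F // D.Ok n ∧ D.s 1 = false ∧ D.t 1 = false} :=
    Nat.card_congr (Equiv.subtypeEquivRight fun D => by simp [ex])
  rw [e] at h1
  have hq : (2 : ℚ) ≤ Nat.card F := by exact_mod_cast (Finite.one_lt_card : 1 < Nat.card F)
  have hu0 : (0 : ℚ) ≤ 1 / (Nat.card F : ℚ) := by positivity
  have hu : 1 / (Nat.card F : ℚ) ≤ 1 / 2 := one_div_le_one_div_of_le (by norm_num) hq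
  have h2 := (tot_mono true hu0 hu (by norm_num) n).trans (tot_half_true n)
  unfold tot at h2
  have h3 : ((5 * Nat.card {D : Dat F // D.Ok n ∧ D.s 1 = false ∧ D.t 1 = false} : ℕ) : ℚ) ≤
      ((76 * Nat.card F ^ n : ℕ) : ℚ) := by
    push_cast
    have h4 : (0 : ℚ) < (Nat.card F : ℚ) ^ n := by positivity
    nlinarith
  exact_mod_cast h3

end Main

end Cfsg.Agent.H173.Num
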