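import Cfsg.Agent.H173.NumOdd
import Cfsg.Agent.H173.NumMain

/-!
# The numbers of data of conjugacy classes of orthogonal groups in odd characteristic (helper173)

`finite_odat` (O0), `card_odat_even` (O1), `card_odat_free` (O2), `card_odat_odd_three`, `card_odat_odd_five` (O3).
-/

set_option autoImplicit false

namespace Cfsg.Agent.H173.NumOdd

open Polynomial Cfsg.Agent.H169 Cfsg.Agent.H171 Cfsg.Agent.H173.Num

theorem ol_mono {u v : ℚ} (h0 : 0 ≤ u) (huv : u ≤ v) (hv : v < 1) (k : ℕ) :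
    (ol u k).1 ≤ (ol v k).1 ∧ (ol u k).2 ≤ (ol v k).2 := by
  have hg : ∀ m : ℕ, 0 < m → 1 / (1 - u ^ m) ≤ 1 / (1 - v ^ m) := by
    intro m hm
    apply inv_one_sub_le (pow_le_pow_left₀ h0 huv m)
    exact pow_lt_one₀ (h0.trans huv) hv hm.ne'
  have hg0 := one_div_nonneg' h0 (huv.trans_lt hv)
  have hp : ∀ m : ℕ, u ^ m ≤ v ^ m := fun m => pow_le_pow_left₀ h0 huv m
  have hv0 : 0 ≤ v := h0.trans huv
  induction k with
  | zero =>
    have p2 := hp 2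
    exact ⟨by unfold ol; linarith, by unfold ol; linarith⟩
  | succ k ih =>
    obtain ⟨i1, i2⟩ := ih
    obtain ⟨n1, n2⟩ := ol_nonneg h0 (huv.trans_lt hv) k
    obtain ⟨m1, m2⟩ := ol_nonneg hv0 hv k
    have g1 := hg (2 * k + 1) (by omega)
    have g2 := hg (2 * k + 2) (by omega)
    have g10 := hg0 (2 * k + 1)
    have g20 := hg0 (2 * k + 2)
    have g11 := g10.trans g1
    have g21 := g20.trans g2
    constructor
    · rw [ol, ol]
      dsimp only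
      gcongr
    · rw [ol, ol]
      dsimp only
      gcongr

theorem ol_le_succ {u : ℚ} (h0 : 0 ≤ u) (h1 : u < 1) (k : ℕ) :
    (ol u k).1 ≤ (ol u (k + 1)).1 ∧ (ol u k).2 ≤ (ol u (k + 1)).2 := by
  obtain ⟨n1, n2⟩ := ol_nonneg h0 h1 k
  have g1 := one_le_inv (x := u ^ (2 * k + 1)) (by positivity) (pow_lt_one₀ h0 h1 (by omega))
  have g2 := one_le_inv (x := u ^ (2 * k + 2)) (by positivity) (pow_lt_one₀ h0 h1 (by omega))
  have key : ∀ a b c d : ℚ, 0 ≤ a → 0 ≤ b → 0 ≤ c → 0 ≤ d → a ≤ (a * (1 + c) + b * d) *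
      (1 / (1 - u ^ (2 * k + 1))) * (1 / (1 - u ^ (2 * k + 2))) := by
    intro a b c d ha hb hc hd
    have h3 : a ≤ a * (1 + c) + b * d := by
      have : 0 ≤ a * c := by positivity
      have : 0 ≤ b * d := by positivity
      linarith
    calc a = a * 1 * 1 := by ring
      _ ≤ _ := by gcongr
  constructor
  · rw [ol]
    dsimp only
    have := key (ol u k).1 (ol u k).2 (6 * u ^ (2 * k + 3) + u ^ (4 * k + 6)) (4 * u ^ (k + 2) + 4 * u ^ (3 * k + 5))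
      n1 n2 (by positivity) (by positivity)
    rwa [← add_assoc] at this
  · rw [ol]
    dsimp only
    have := key (ol u k).2 (ol u k).1 (6 * u ^ (2 * k + 3) + u ^ (4 * k + 6)) (4 * u ^ (k + 1) + 4 * u ^ (3 * k + 4))
      n2 n1 (by positivity) (by positivity)
    rwa [← add_assoc] at this

theorem ol_le_of_le {u : ℚ} (h0 : 0 ≤ u) (h1 : u < 1) {k l : ℕ} (hkl : k ≤ l) :
    (ol u k).1 ≤ (ol u l).1 ∧ (ol u k).2 ≤ (ol u l).2 := by
  induction hkl with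
  | refl => exact ⟨le_rfl, le_rfl⟩
  | @step m _ ih =>
    have := ol_le_succ h0 h1 m
    exact ⟨ih.1.trans this.1, ih.2.trans this.2⟩

/-- the tail -/
theorem ol_tail {u l γ T : ℚ} (h0 : 0 < u) (h1 : u < 1) (hl : 0 < l) (hlu : 1 ≤ l ^ 2 * u) (hγ : 0 ≤ γ) (hT : 0 ≤ T)
    (k0 : ℕ) (hx0 : (u ^ (k0 + 1)) ^ 2 < u)
    (h : ∀ x : ℚ, 0 ≤ x → x ≤ u ^ (k0 + 1) →
      (1 + 6 * (u * x ^ 2) + u ^ 2 * x ^ 4 + l * (4 * (u * x) + 4 * (u ^ 2 * x ^ 3))) * (1 + γ * (x * u)) ≤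
        (1 + γ * x) * (1 - x ^ 2 / u) * (1 - x ^ 2))
    (hE : (ol u k0).1 ≤ T) (hO : (ol u k0).2 ≤ l * T) {k : ℕ} (hk : k0 ≤ k) :
    ∃ S, 0 ≤ S ∧ (ol u k).1 ≤ S ∧ (ol u k).2 ≤ l * S ∧ S * (1 + γ * u ^ (k + 1)) ≤ T * (1 + γ * u ^ (k0 + 1)) := by
  induction k, hk using Nat.le_induction with
  | base => exact ⟨T, hT, hE, hO, le_rfl⟩
  | succ k hk ih =>
    obtain ⟨S, hS0, hS1, hS2, hS3⟩ := ih
    have hx := h (u ^ (k + 1)) (by positivity) (pow_le_pow_of_le_one h0.le h1.le (by omega))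
    have hxle : u ^ (k + 1) ≤ u ^ (k0 + 1) := pow_le_pow_of_le_one h0.le h1.le (by omega)
    have e1 : u ^ (2 * k + 3) = u * (u ^ (k + 1)) ^ 2 := by ring
    have e2 : u ^ (k + 2) = u * u ^ (k + 1) := by ring
    have e3 : u ^ (4 * k + 6) = u ^ 2 * (u ^ (k + 1)) ^ 4 := by ring
    have e4 : u ^ (3 * k + 5) = u ^ 2 * (u ^ (k + 1)) ^ 3 := by ring
    have e6 : u ^ (3 * k + 4) = u * (u ^ (k + 1)) ^ 3 := by ring
    have e7 : u ^ (2 * k + 1) = (u ^ (k + 1)) ^ 2 / u := by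
      rw [eq_div_iff h0.ne']; ring
    have e8 : u ^ (2 * k + 2) = (u ^ (k + 1)) ^ 2 := by ring
    have e5 : u ^ (k + 1 + 1) = u ^ (k + 1) * u := by ring
    obtain ⟨n1, n2⟩ := ol_nonneg h0.le h1 k
    have hx0' : 0 < u ^ (k + 1) := by positivity
    have hx1 : u ^ (k + 1) < 1 := pow_lt_one₀ h0.le h1 (by omega)
    set x := u ^ (k + 1) with hxdef
    have hxx : x ^ 2 < u := lt_of_le_of_lt (pow_le_pow_left₀ hx0'.le hxle 2) hx0
    have d1 : 0 < 1 - x ^ 2 / u := by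
      rw [sub_pos, div_lt_one h0]; exact hxx
    have d2 : 0 < 1 - x ^ 2 := by nlinarith
    set a := 1 + 6 * (u * x ^ 2) + u ^ 2 * x ^ 4 with ha
    have ha0 : 0 ≤ a := by positivity
    set b := 4 * (u * x) + 4 * (u ^ 2 * x ^ 3) with hb
    have hb0 : 0 ≤ b := by positivity
    have hc : 4 * x + 4 * (u * x ^ 3) ≤ l * (l * b) := by
      have e9 : l * (l * b) = (l ^ 2 * u) * (4 * x + 4 * (u * x ^ 3)) := by rw [hb]; ring
      rw [e9]
      have : 0 ≤ 4 * x + 4 * (u * x ^ 3) := by positivity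
      nlinarith
    refine ⟨S * (a + l * b) * (1 / (1 - x ^ 2 / u)) * (1 / (1 - x ^ 2)), by positivity, ?_, ?_, ?_⟩
    · rw [ol]
      dsimp only
      rw [e1, e2, e3, e4, e7, e8]
      gcongr
      calc (ol u k).1 * a + (ol u k).2 * b ≤ S * a + (l * S) * b := by gcongr
        _ = S * (a + l * b) := by ring
    · rw [ol]
      dsimp only
      rw [e1, e3, e6, e7, e8]
      have : (ol u k).2 * a + (ol u k).1 * (4 * x + 4 * (u * x ^ 3)) ≤ l * (S * (a + l * b)) := by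
        calc (ol u k).2 * a + (ol u k).1 * (4 * x + 4 * (u * x ^ 3)) ≤ (l * S) * a + S * (l * (l * b)) := by gcongr
          _ = _ := by ring
      calc _ ≤ l * (S * (a + l * b)) * (1 / (1 - x ^ 2 / u)) * (1 / (1 - x ^ 2)) := by gcongr
        _ = _ := by ring
    · refine le_trans ?_ hS3
      rw [e5]
      calc S * (a + l * b) * (1 / (1 - x ^ 2 / u)) * (1 / (1 - x ^ 2)) * (1 + γ * (x * u))
          = S * ((a + l * b) * (1 + γ * (x * u))) * (1 / ((1 - x ^ 2 / u) * (1 - x ^ 2))) := by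
            rw [← one_div_mul_one_div (1 - x ^ 2 / u)]; ring
        _ ≤ S * ((1 + γ * x) * (1 - x ^ 2 / u) * (1 - x ^ 2)) * (1 / ((1 - x ^ 2 / u) * (1 - x ^ 2))) := by
            gcongr
        _ = S * (1 + γ * x) := by
            rw [mul_assoc (1 + γ * x)]
            rw [mul_assoc S, mul_assoc (1 + γ * x), mul_one_div_cancel (mul_pos d1 d2).ne', mul_one]

theorem ol_le {u l γ T B : ℚ} (h0 : 0 < u) (h1 : u < 1) (hl : 0 < l) (hlu : 1 ≤ l ^ 2 * u) (hγ : 0 ≤ γ) (hT : 0 ≤ T)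
    (k0 : ℕ) (hx0 : (u ^ (k0 + 1)) ^ 2 < u)
    (h : ∀ x : ℚ, 0 ≤ x → x ≤ u ^ (k0 + 1) →
      (1 + 6 * (u * x ^ 2) + u ^ 2 * x ^ 4 + l * (4 * (u * x) + 4 * (u ^ 2 * x ^ 3))) * (1 + γ * (x * u)) ≤
        (1 + γ * x) * (1 - x ^ 2 / u) * (1 - x ^ 2))
    (hE : (ol u k0).1 ≤ T) (hO : (ol u k0).2 ≤ l * T) (hB : T * (1 + γ * u ^ (k0 + 1)) ≤ B) (k : ℕ) :
    (ol u k).1 ≤ B ∧ (ol u k).2 ≤ l * B := by
  obtain ⟨S, hS0, hS1, hS2, hS3⟩ := ol_tail h0 h1 hl hlu hγ hT k0 hx0 h hE hO (le_max_right k k0)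
  have h3 := ol_le_of_le h0.le h1 (le_max_left k k0)
  have h5 : 0 ≤ S * (γ * u ^ (max k k0 + 1)) := by positivity
  have hSB : S ≤ B := by nlinarith
  exact ⟨h3.1.trans (hS1.trans hSB), h3.2.trans (hS2.trans (mul_le_mul_of_nonneg_left hSB hl.le))⟩

theorem third_tail (x : ℚ) (h0 : 0 ≤ x) (h1 : x ≤ (1 / 3 : ℚ) ^ (5 + 1)) :
    (1 + 6 * (1 / 3 * x ^ 2) + (1 / 3) ^ 2 * x ^ 4 + 17321 / 10000 * (4 * (1 / 3 * x) + 4 * ((1 / 3) ^ 2 * x ^ 3))) *
      (1 + 36 / 10 * (x * (1 / 3))) ≤ (1 + 36 / 10 * x) * (1 - x ^ 2 / (1 / 3)) * (1 - x ^ 2) := by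
  norm_num at h1
  have h2 : x ^ 2 ≤ x * (1 / 729) := by nlinarith
  have h3 : x ^ 3 ≤ x * (1 / 729) := by nlinarith [mul_nonneg h0 h0]
  have h4 : x ^ 4 ≤ x * (1 / 729) := by nlinarith [mul_nonneg h0 h0, mul_nonneg (mul_nonneg h0 h0) h0]
  have h5 : x ^ 5 ≤ x * (1 / 729) := by
    nlinarith [mul_nonneg h0 h0, mul_nonneg (mul_nonneg h0 h0) h0, mul_nonneg (mul_nonneg (mul_nonneg h0 h0) h0) h0]
  have h6 : 0 ≤ x ^ 4 := by positivity
  have h7 : 0 ≤ x ^ 5 := by positivity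
  nlinarith

theorem fifth_tail (x : ℚ) (h0 : 0 ≤ x) (h1 : x ≤ (1 / 5 : ℚ) ^ (3 + 1)) :
    (1 + 6 * (1 / 5 * x ^ 2) + (1 / 5) ^ 2 * x ^ 4 + 22361 / 10000 * (4 * (1 / 5 * x) + 4 * ((1 / 5) ^ 2 * x ^ 3))) *
      (1 + 24 / 10 * (x * (1 / 5))) ≤ (1 + 24 / 10 * x) * (1 - x ^ 2 / (1 / 5)) * (1 - x ^ 2) := by
  norm_num at h1
  have h2 : x ^ 2 ≤ x * (1 / 625) := by nlinarith
  have h3 : x ^ 3 ≤ x * (1 / 625) := by nlinarith [mul_nonneg h0 h0]
  have h4 : x ^ 4 ≤ x * (1 / 625) := by nlinarith [mul_nonneg h0 h0, mul_nonneg (mul_nonneg h0 h0) h0]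
  have h5 : x ^ 5 ≤ x * (1 / 625) := by
    nlinarith [mul_nonneg h0 h0, mul_nonneg (mul_nonneg h0 h0) h0, mul_nonneg (mul_nonneg (mul_nonneg h0 h0) h0) h0]
  have h6 : 0 ≤ x ^ 4 := by positivity
  have h7 : 0 ≤ x ^ 5 := by positivity
  nlinarith

theorem ol_third (k : ℕ) : (ol (1 / 3) k).1 ≤ 163 / 10 ∧ (ol (1 / 3) k).2 ≤ 2825 / 100 := by
  have := ol_le (u := 1 / 3) (l := 17321 / 10000) (γ := 36 / 10) (T := 162033 / 10000) (B := 16284 / 1000)
    (by norm_num) (by norm_num) (by norm_num) (by norm_num) (by norm_num) (by norm_num) 5 (by norm_num) third_tail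
    (by norm_num [ol]) (by norm_num [ol]) (by norm_num) k
  exact ⟨this.1.trans (by norm_num), this.2.trans (by norm_num)⟩

theorem ol_fifth (k : ℕ) : (ol (1 / 5) k).1 ≤ 45 / 10 ∧ (ol (1 / 5) k).2 ≤ 101 / 10 := by
  have := ol_le (u := 1 / 5) (l := 22361 / 10000) (γ := 24 / 10) (T := 44638 / 10000) (B := 4481 / 1000)
    (by norm_num) (by norm_num) (by norm_num) (by norm_num) (by norm_num) (by norm_num) 3 (by norm_num) fifth_tail
    (by norm_num [ol]) (by norm_num [ol]) (by norm_num) k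
  exact ⟨this.1.trans (by norm_num), this.2.trans (by norm_num)⟩

/-- the product for `u = 1 / 3` -/
theorem pr_third (k : ℕ) : pr (1 / 3) k ≤ 1786 / 1000 := by
  have h : ∀ k, 7 ≤ k → pr (1 / 3) k * (1 + 6 / 10 * (1 / 3 : ℚ) ^ k) ≤
      pr (1 / 3) 7 * (1 + 6 / 10 * (1 / 3 : ℚ) ^ 7) := by
    intro k hk
    induction k, hk using Nat.le_induction with
    | base => exact le_rfl
    | succ k hk ih =>
      refine le_trans ?_ ih
      rw [pr]
      have hx : (1 / 3 : ℚ) ^ k ≤ (1 / 3) ^ 7 := pow_le_pow_of_le_one (by norm_num) (by norm_num) hk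
      have hx0 : 0 < (1 / 3 : ℚ) ^ k := by positivity
      rw [pow_succ]
      set x := (1 / 3 : ℚ) ^ k
      have hp := pr_pos (u := 1 / 3) (by norm_num) (by norm_num) k
      norm_num at hx
      have d1 : 0 < 1 - x * (1 / 3) := by linarith
      rw [mul_assoc]
      apply mul_le_mul_of_nonneg_left _ hp.le
      rw [div_mul_eq_mul_div, one_mul, div_le_iff₀ d1]
      nlinarith
  have h1 := h (max k 7) (le_max_right _ _)
  have h2 := pr_le_of_le (u := 1 / 3) (by norm_num) (by norm_num) (le_max_left k 7)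
  have h3 := pr_pos (u := 1 / 3) (by norm_num) (by norm_num) (max k 7)
  have h4 : 0 ≤ pr (1 / 3) (max k 7) * (6 / 10 * (1 / 3 : ℚ) ^ (max k 7)) := by positivity
  have h5 : pr (1 / 3) 7 * (1 + 6 / 10 * (1 / 3 : ℚ) ^ 7) ≤ 1786 / 1000 := by norm_num [pr]
  nlinarith

theorem pr_mono {u v : ℚ} (h0 : 0 ≤ u) (huv : u ≤ v) (hv : v < 1) (k : ℕ) : pr u k ≤ pr v k := by
  induction k with
  | zero => exact le_rfl
  | succ k ih =>
    rw [pr, pr]
    have h1 : 1 / (1 - u ^ (k + 1)) ≤ 1 / (1 - v ^ (k + 1)) := by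
      apply inv_one_sub_le (pow_le_pow_left₀ h0 huv _)
      exact pow_lt_one₀ (h0.trans huv) hv (by omega)
    have h2 := one_div_nonneg' h0 (huv.trans_lt hv) (k + 1)
    exact mul_le_mul ih h1 h2 (pr_pos (h0.trans huv) hv k).le

section Main

variable {F : Type*} [Field F] [Finite F]

theorem bound_free (h2 : (2 : F) ≠ 0) (u : ℚ) (hu : u = 1 / (Nat.card F : ℚ)) (k : ℕ) : ∀ n,
    B1 (Nat.card F) n (SF F (k + 2) n) (pr u k) := by
  have hq1 : 1 < Nat.card F := Finite.one_lt_card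
  have hq0 : (0 : ℚ) < Nat.card F := by exact_mod_cast (by omega : 0 < Nat.card F)
  have hu0 : 0 < u := by rw [hu]; positivity
  have hu1 : u < 1 := by rw [hu, div_lt_one hq0]; exact_mod_cast hq1
  induction k with
  | zero =>
    intro n
    have e1 := stepG_one hq1 (triples h2) (O0 F) SF_one (reco 1 0 0) 0 n hu
    rw [pow_zero] at e1
    exact e1.subset (step_free 1 n)
  | succ k ih =>
    intro n
    refine (B1.subset (stepG_B1 hq1 (triples h2) (pr_pos hu0.le hu1 k).le ih (reco (k + 2) 0 0) (k + 2) 0 n (by omega) hu)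
      (step_free (k + 2) n)).mono (le_of_eq ?_)
    rw [pr, pow_zero, mul_one, show k + 2 - 1 = k + 1 by omega]

theorem B1_even (h2 : (2 : F) ≠ 0) (n : ℕ) :
    B1 (Nat.card F) n {D : ODat F | D.Ok (2 * n)} (ol (1 / (Nat.card F : ℚ)) n).1 :=
  ((bound_aux h2 _ rfl n n).1).subset fun D hD => Pdo.of_ok (N := 2 * n) hD (by omega)

theorem B1_odd (h2 : (2 : F) ≠ 0) (n : ℕ) :
    B1 (Nat.card F) n {D : ODat F | D.Ok (2 * n + 1)} (ol (1 / (Nat.card F : ℚ)) n).2 :=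
  ((bound_aux h2 _ rfl n n).2).subset fun D hD => Pdo.of_ok (N := 2 * n + 1) hD (by omega)

theorem B1_free (h2 : (2 : F) ≠ 0) (n : ℕ) :
    B1 (Nat.card F) n {D : ODat F | D.Ok (2 * n) ∧ D.Free} (pr (1 / (Nat.card F : ℚ)) (2 * n)) := by
  refine (bound_free h2 _ rfl (2 * n) n).subset ?_
  rintro D ⟨hD, hF⟩
  exact ⟨Pdo.of_ok hD (by omega), hF⟩

/-- **(O0)** -/
theorem finite_odat (h2 : (2 : F) ≠ 0) (N : ℕ) : Finite {D : ODat F // D.Ok N} := by
  rcases Nat.even_or_odd N with ⟨n, hn⟩ | ⟨n, hn⟩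
  · rw [hn, ← two_mul]; exact (B1_even h2 n).1
  · rw [hn]; exact (B1_odd h2 n).1

theorem three_le_card (h2 : (2 : F) ≠ 0) : 3 ≤ Nat.card F := by
  have hq1 : 1 < Nat.card F := Finite.one_lt_card
  rcases Nat.lt_or_ge (Nat.card F) 3 with h | h
  · exfalso
    have h3 : Nat.card F = 2 := by omega
    have hfin := Fintype.ofFinite F
    rw [Nat.card_eq_fintype_card] at h3
    have := Nat.cast_card_eq_zero F
    rw [h3] at this
    exact h2 (by exact_mod_cast this)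
  · exact h

theorem card_even_le (h2 : (2 : F) ≠ 0) (n : ℕ) :
    (Nat.card {D : ODat F // D.Ok (2 * n)} : ℚ) ≤ 163 / 10 * (Nat.card F : ℚ) ^ n := by
  have h1 := (B1_even h2 n).2
  have hq : (3 : ℚ) ≤ Nat.card F := by exact_mod_cast three_le_card h2
  have hu0 : (0 : ℚ) ≤ 1 / (Nat.card F : ℚ) := by positivity
  have hu : 1 / (Nat.card F : ℚ) ≤ 1 / 3 := one_div_le_one_div_of_le (by norm_num) hq
  have h3 := ((ol_mono hu0 hu (by norm_num) n).1).trans (ol_third n).1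
  have h4 : (0 : ℚ) < (Nat.card F : ℚ) ^ n := by positivity
  exact h1.trans (by nlinarith)

/-- **(O1)** -/
theorem card_odat_even (h2 : (2 : F) ≠ 0) (n : ℕ) :
    10 * Nat.card {D : ODat F // D.Ok (2 * n)} ≤ 163 * Nat.card F ^ n := by
  have h1 := card_even_le h2 n
  have h3 : ((10 * Nat.card {D : ODat F // D.Ok (2 * n)} : ℕ) : ℚ) ≤ ((163 * Nat.card F ^ n : ℕ) : ℚ) := by
    push_cast
    linarith
  exact_mod_cast h3

/-- **(O2)** -/
theorem card_odat_free (h2 : (2 : F) ≠ 0) (n : ℕ) :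
    1000 * Nat.card {D : ODat F // D.Ok (2 * n) ∧ D.Free} ≤ 1786 * Nat.card F ^ n := by
  have h1 := (B1_free h2 n).2
  have hq : (3 : ℚ) ≤ Nat.card F := by exact_mod_cast three_le_card h2
  have hu0 : (0 : ℚ) ≤ 1 / (Nat.card F : ℚ) := by positivity
  have hu : 1 / (Nat.card F : ℚ) ≤ 1 / 3 := one_div_le_one_div_of_le (by norm_num) hq
  have h4 := (pr_mono hu0 hu (by norm_num) (2 * n)).trans (pr_third (2 * n))
  have h5 : (0 : ℚ) < (Nat.card F : ℚ) ^ n := by positivity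
  have h6 : (Nat.card {D : ODat F // D.Ok (2 * n) ∧ D.Free} : ℚ) ≤
    pr (1 / (Nat.card F : ℚ)) (2 * n) * (Nat.card F : ℚ) ^ n := h1
  have h3 : ((1000 * Nat.card {D : ODat F // D.Ok (2 * n) ∧ D.Free} : ℕ) : ℚ) ≤ ((1786 * Nat.card F ^ n : ℕ) : ℚ) := by
    push_cast
    nlinarith
  exact_mod_cast h3

/-- **(O3)**, `q = 3` -/
theorem card_odat_odd_three (h : Nat.card F = 3) (n : ℕ) :
    100 * Nat.card {D : ODat F // D.Ok (2 * n + 1)} ≤ 2825 * 3 ^ n := by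
  have h2 : (2 : F) ≠ 0 := by
    intro h0
    have hfin := Fintype.ofFinite F
    rw [Nat.card_eq_fintype_card] at h
    have h3 := Nat.cast_card_eq_zero F
    rw [h] at h3
    have h4 : (1 : F) = 0 := by
      have : (1 : F) = (3 : ℕ) - 2 := by push_cast; ring
      rw [this, h3, h0, sub_zero]
    exact one_ne_zero h4
  have h1 : (Nat.card {D : ODat F // D.Ok (2 * n + 1)} : ℚ) ≤
    (ol (1 / (Nat.card F : ℚ)) n).2 * (Nat.card F : ℚ) ^ n := (B1_odd h2 n).2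
  rw [h] at h1
  have h3 := (ol_third n).2
  have h5 : (0 : ℚ) < (3 : ℚ) ^ n := by positivity
  have h6 : ((100 * Nat.card {D : ODat F // D.Ok (2 * n + 1)} : ℕ) : ℚ) ≤ ((2825 * 3 ^ n : ℕ) : ℚ) := by
    push_cast at h1 ⊢
    nlinarith
  exact_mod_cast h6

/-- **(O3)**, `q ≥ 5` -/
theorem card_odat_odd_five (h2 : (2 : F) ≠ 0) (h : 5 ≤ Nat.card F) (n : ℕ) :
    10 * Nat.card {D : ODat F // D.Ok (2 * n + 1)} ≤ 101 * Nat.card F ^ n := by
  have h1 : (Nat.card {D : ODat F // D.Ok (2 * n + 1)} : ℚ) ≤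
    (ol (1 / (Nat.card F : ℚ)) n).2 * (Nat.card F : ℚ) ^ n := (B1_odd h2 n).2
  have hq : (5 : ℚ) ≤ Nat.card F := by exact_mod_cast h
  have hu0 : (0 : ℚ) ≤ 1 / (Nat.card F : ℚ) := by positivity
  have hu : 1 / (Nat.card F : ℚ) ≤ 1 / 5 := one_div_le_one_div_of_le (by norm_num) hq
  have h3 := ((ol_mono hu0 hu (by norm_num) n).2).trans (ol_fifth n).2
  have h5 : (0 : ℚ) < (Nat.card F : ℚ) ^ n := by positivity
  have h6 : ((10 * Nat.card {D : ODat F // D.Ok (2 * n + 1)} : ℕ) : ℚ) ≤ ((101 * Nat.card F ^ n : ℕ) : ℚ) := by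
    push_cast
    nlinarith
  exact_mod_cast h6

end Main

end Cfsg.Agent.H173.NumOdd
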