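import Cfsg.Agent.H111.Pres

/-!
# Presentations on given generators (helper173, for helper110's cluster S2284-S2297)

`PresOn g m` : the family `g : ι → G` generates `G`, and the kernel of `FreeGroup ι → G` is the normal closure of
at most `m` elements.  Equivalent forms: `PresOn.exists_presented`, `presOn_of_presented`.

* `PresOn.hasPres` (ι = Fin k), `PresOn.map` (isomorphism), `PresOn.reindex`, `PresOn.mono`.
* `PresOn.change` : change of generators with tracking; the generators `g' j = g (σ j)` for `j ∈ S`
  (`σ` injective on `S`) are shared and cost no relator.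
-/

set_option autoImplicit false

namespace Cfsg.Agent.H173.Pres

open Cfsg.Agent.H111

/-- the family `g` generates `G` and its relations are consequences of at most `m` of them -/
def PresOn {ι G : Type*} [Group G] (g : ι → G) (m : ℕ) : Prop :=
  Function.Surjective (FreeGroup.lift g) ∧
    ∃ R : Finset (FreeGroup ι), R.card ≤ m ∧ (FreeGroup.lift g).ker = Subgroup.normalClosure (↑R : Set (FreeGroup ι))

variable {ι κ G H : Type*} [Group G] [Group H] {m m' : ℕ}

theorem surj_of_closure (g : ι → G) (hg : Subgroup.closure (Set.range g) = ⊤) :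
    Function.Surjective (FreeGroup.lift g) := by
  rw [← MonoidHom.range_eq_top, FreeGroup.range_lift_eq_closure, hg]

theorem closure_of_surj (g : ι → G) (hg : Function.Surjective (FreeGroup.lift g)) :
    Subgroup.closure (Set.range g) = ⊤ := by
  rw [← FreeGroup.range_lift_eq_closure, MonoidHom.range_eq_top]
  exact hg

namespace PresOn

theorem mono {g : ι → G} (h : PresOn g m) (hm : m ≤ m') : PresOn g m' := by
  obtain ⟨h1, R, h2, h3⟩ := h
  exact ⟨h1, R, h2.trans hm, h3⟩

theorem map {g : ι → G} (h : PresOn g m) (e : G ≃* H) : PresOn (fun i => e (g i)) m := by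
  obtain ⟨h1, R, h2, h3⟩ := h
  have he : FreeGroup.lift (fun i => e (g i)) = e.toMonoidHom.comp (FreeGroup.lift g) := by
    ext i; simp
  refine ⟨?_, R, h2, ?_⟩
  · rw [he]; exact e.surjective.comp h1
  · rw [he, ← h3]
    ext x
    simp [MonoidHom.mem_ker]

/-- the form with an isomorphism -/
theorem exists_presented {g : ι → G} (h : PresOn g m) :
    ∃ rels : Finset (FreeGroup ι), rels.card ≤ m ∧
      ∃ e : PresentedGroup (↑rels : Set (FreeGroup ι)) ≃* G, ∀ i, e (PresentedGroup.of i) = g i := by
  obtain ⟨h1, R, h2, h3⟩ := h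
  refine ⟨R, h2, (QuotientGroup.quotientMulEquivOfEq h3.symm).trans
    (QuotientGroup.quotientKerEquivOfSurjective _ h1), fun i => ?_⟩
  change FreeGroup.lift g (FreeGroup.of i) = g i
  exact FreeGroup.lift_apply_of

end PresOn

theorem presOn_of_presented {g : ι → G} (rels : Finset (FreeGroup ι)) (h : rels.card ≤ m)
    (e : PresentedGroup (↑rels : Set (FreeGroup ι)) ≃* G) (he : ∀ i, e (PresentedGroup.of i) = g i) :
    PresOn g m := by
  have h1 : FreeGroup.lift g = e.toMonoidHom.comp (PresentedGroup.mk (↑rels : Set (FreeGroup ι))) := by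
    ext i
    rw [FreeGroup.lift_apply_of]
    exact (he i).symm
  refine ⟨?_, rels, h, ?_⟩
  · rw [h1]
    exact e.surjective.comp (PresentedGroup.mk_surjective _)
  · ext x
    rw [MonoidHom.mem_ker, h1, MonoidHom.comp_apply]
    change e _ = 1 ↔ _
    rw [map_eq_one_iff e e.injective]
    exact QuotientGroup.eq_one_iff x

/-- from an untracked presentation -/
theorem exists_presOn {k : ℕ} (h : HasPres G k m) : ∃ g : Fin k → G, PresOn g m := by
  obtain ⟨R, h1, ⟨e⟩⟩ := h
  exact ⟨fun i => e (PresentedGroup.of i), presOn_of_presented R h1 e fun i => rfl⟩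

namespace PresOn

theorem hasPres {k : ℕ} {g : Fin k → G} (h : PresOn g m) : HasPres G k m := by
  obtain ⟨R, h1, e, -⟩ := h.exists_presented
  exact ⟨R, h1, ⟨e⟩⟩

theorem quo {g : ι → G} (h : PresOn g m) : Quo (FreeGroup ι) G m := by
  obtain ⟨h1, R, h2, h3⟩ := h
  exact ⟨_, R, h1, h2, h3⟩

/-- The criterion: the relators in the list `L` hold in `G`, and they imply every relation in the following sense:
for every homomorphism `φ` from the free group which kills `L`, the kernel of `FreeGroup ι → G` is in `ker φ`. -/
theorem of_list (g : ι → G) (hg : Subgroup.closure (Set.range g) = ⊤) (L : List (FreeGroup ι))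
    (hL : ∀ r ∈ L, FreeGroup.lift g r = 1)
    (h : ∀ φ : FreeGroup ι →* FreeGroup ι ⧸ Subgroup.normalClosure {r | r ∈ L}, (∀ r ∈ L, φ r = 1) →
      (FreeGroup.lift g).ker ≤ φ.ker) : PresOn g L.length := by
  classical
  refine ⟨surj_of_closure g hg, L.toFinset, List.toFinset_card_le L, ?_⟩
  have hset : (↑L.toFinset : Set (FreeGroup ι)) = {r | r ∈ L} := by ext; simp
  rw [hset]
  apply le_antisymm
  · have h1 := h (QuotientGroup.mk' _)
      (fun r hr => (QuotientGroup.eq_one_iff r).2 (Subgroup.subset_normalClosure hr))
    rwa [QuotientGroup.ker_mk'] at h1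
  · exact Subgroup.normalClosure_le_normal fun r hr => hL r hr

/-- **Change of generators with tracking.**  `G` has a presentation on the family `g` with `m` relators; the family
`g' : κ → G` generates `G`; the generators `g' j`, `j ∈ S`, are members `g (σ j)` of the first family (`σ` injective on
`S`).  Then `G` has a presentation on the family `g'` with `m + #(κ \ S)` relators. -/
theorem change [Fintype κ] [DecidableEq κ] {g : ι → G} (h : PresOn g m) (g' : κ → G)
    (hg' : Subgroup.closure (Set.range g') = ⊤) (S : Finset κ) (σ : κ → ι)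
    (hσ : ∀ i ∈ S, ∀ j ∈ S, σ i = σ j → i = j) (hS : ∀ j ∈ S, g' j = g (σ j)) :
    PresOn g' (m + (Finset.univ \ S).card) := by
  classical
  obtain ⟨hf, R, hR, hk⟩ := h
  have hs : Function.Surjective (FreeGroup.lift g') := surj_of_closure g' hg'
  let τ : ι → FreeGroup κ := fun i =>
    if hi : ∃ j ∈ S, σ j = i then FreeGroup.of hi.choose else Function.surjInv hs (g i)
  have hτS : ∀ j ∈ S, τ (σ j) = FreeGroup.of j := by
    intro j hj
    have hi : ∃ j' ∈ S, σ j' = σ j := ⟨j, hj, rfl⟩
    have e : hi.choose = j := hσ _ hi.choose_spec.1 _ hj hi.choose_spec.2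
    simp only [τ]
    rw [dif_pos hi, e]
  have hτ : ∀ i, FreeGroup.lift g' (τ i) = g i := by
    intro i
    by_cases hi : ∃ j ∈ S, σ j = i
    · obtain ⟨j, hj, rfl⟩ := hi
      rw [hτS j hj, FreeGroup.lift_apply_of, hS j hj]
    · simp only [τ]
      rw [dif_neg hi]
      exact Function.surjInv_eq hs _
  let α : FreeGroup ι →* FreeGroup κ := FreeGroup.lift τ
  have hα : ∀ x, FreeGroup.lift g' (α x) = FreeGroup.lift g x := by
    intro x
    have : (FreeGroup.lift g').comp α = FreeGroup.lift g := by
      ext i
      simp only [α, MonoidHom.comp_apply, FreeGroup.lift_apply_of]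
      exact hτ i
    exact DFunLike.congr_fun this x
  let v : κ → FreeGroup ι := fun j => Function.surjInv hf (g' j)
  have hv : ∀ j, FreeGroup.lift g (v j) = g' j := fun j => Function.surjInv_eq hf _
  let L : List (FreeGroup κ) := R.toList.map α ++
    (Finset.univ \ S).toList.map fun j => (FreeGroup.of j)⁻¹ * α (v j)
  have hlen : L.length ≤ m + (Finset.univ \ S).card := by
    simp only [L, List.length_append, List.length_map, Finset.length_toList]
    omega
  refine (of_list g' hg' L ?_ ?_).mono hlen
  · intro r hr
    simp only [L, List.mem_append, List.mem_map, Finset.mem_toList] at hr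
    rcases hr with ⟨x, hx, rfl⟩ | ⟨j, -, rfl⟩
    · rw [hα]
      have : x ∈ (FreeGroup.lift g).ker := by rw [hk]; exact Subgroup.subset_normalClosure hx
      exact this
    · rw [map_mul, map_inv, hα, hv, FreeGroup.lift_apply_of, inv_mul_cancel]
  · intro φ hφ x hx
    have h1 : (FreeGroup.lift g).ker ≤ (φ.comp α).ker := by
      rw [hk]
      apply Subgroup.normalClosure_le_normal
      intro r hr
      exact hφ (α r) (by
        simp only [L, List.mem_append, List.mem_map, Finset.mem_toList]
        exact Or.inl ⟨r, hr, rfl⟩)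
    let ψ := (FreeGroup.lift g).liftOfSurjective hf ⟨_, h1⟩
    have hψ : ∀ y, ψ (FreeGroup.lift g y) = φ (α y) := fun y =>
      (FreeGroup.lift g).liftOfRightInverse_comp_apply _ _ ⟨_, h1⟩ y
    have e : ψ.comp (FreeGroup.lift g') = φ := by
      ext j
      rw [MonoidHom.comp_apply, FreeGroup.lift_apply_of]
      by_cases hj : j ∈ S
      · have h3 := hψ (FreeGroup.of (σ j))
        rw [FreeGroup.lift_apply_of, ← hS j hj] at h3
        rw [h3]
        simp only [α]
        rw [FreeGroup.lift_apply_of, hτS j hj]
      · rw [← hv, hψ]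
        have h2 := hφ ((FreeGroup.of j)⁻¹ * α (v j)) (by
          simp only [L, List.mem_append, List.mem_map, Finset.mem_toList]
          exact Or.inr ⟨j, by simp [hj], rfl⟩)
        rw [map_mul, map_inv, inv_mul_eq_one] at h2
        exact h2.symm
    rw [MonoidHom.mem_ker, ← e, MonoidHom.comp_apply, (MonoidHom.mem_ker).1 hx, map_one]

/-- change of generators, nothing shared -/
theorem change_all [Fintype κ] {g : ι → G} (h : PresOn g m) (g' : κ → G)
    (hg' : Subgroup.closure (Set.range g') = ⊤) (hι : Nonempty ι ∨ IsEmpty κ) : PresOn g' (m + Fintype.card κ) := by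
  classical
  rcases hι with ⟨⟨i⟩⟩ | hκ
  · have := h.change g' hg' ∅ (fun _ => i) (by simp) (by simp)
    simpa using this
  · have := h.change g' hg' ∅ (fun j => hκ.elim j) (by simp) (by simp)
    simpa using this

/-- reindexing -/
theorem reindex {g : ι → G} (h : PresOn g m) (e : κ ≃ ι) : PresOn (fun j => g (e j)) m := by
  classical
  obtain ⟨h1, R, h2, h3⟩ := h
  let E : FreeGroup κ ≃* FreeGroup ι := FreeGroup.freeGroupCongr e
  have hE : FreeGroup.lift (fun j => g (e j)) = (FreeGroup.lift g).comp E.toMonoidHom := by
    ext j; simp [E]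
  refine ⟨?_, R.image E.symm, Finset.card_image_le.trans h2, ?_⟩
  · rw [hE]; exact h1.comp E.surjective
  · rw [hE]
    ext x
    rw [MonoidHom.mem_ker, MonoidHom.comp_apply]
    change FreeGroup.lift g (E x) = 1 ↔ _
    rw [← MonoidHom.mem_ker, h3]
    have h4 : Subgroup.normalClosure (↑(R.image E.symm) : Set (FreeGroup κ)) =
        (Subgroup.normalClosure (↑R : Set (FreeGroup ι))).map E.symm.toMonoidHom := by
      rw [Subgroup.map_normalClosure (↑R : Set (FreeGroup ι)) E.symm.toMonoidHom E.symm.surjective]
      simp
    rw [h4]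
    constructor
    · intro hx
      exact ⟨E x, hx, E.symm_apply_apply x⟩
    · rintro ⟨y, hy, rfl⟩
      change E (E.symm y) ∈ _
      rwa [E.apply_symm_apply]

end PresOn

/-- two generators `a b`; nothing shared -/
theorem presOn_pair {k : ℕ} (h : HasPres G k m) (a b : G) (hab : Subgroup.closure {a, b} = ⊤) :
    PresOn ![a, b] (m + 2) := by
  obtain ⟨g, hg⟩ := exists_presOn h
  have hr : Set.range ![a, b] = {a, b} := by
    rw [Matrix.range_cons, Matrix.range_cons, Matrix.range_empty, Set.union_empty]
    rfl
  rcases Nat.eq_zero_or_pos k with rfl | hk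
  · -- `G` is a quotient of the free group on nothing
    have hG : ∀ x : G, x = 1 := by
      intro x
      obtain ⟨y, rfl⟩ := hg.1 x
      have : y = 1 := Subsingleton.elim _ _
      rw [this, map_one]
    have hlen : [(FreeGroup.of 0 : FreeGroup (Fin 2)), FreeGroup.of 1].length ≤ m + 2 := by simp
    refine (PresOn.of_list ![a, b] (by rw [hr]; exact hab) [(FreeGroup.of 0 : FreeGroup (Fin 2)), FreeGroup.of 1]
      (fun r _ => hG _) ?_).mono hlen
    intro φ hφ x _
    have e : φ = 1 := by
      ext j
      fin_cases j
      · exact hφ _ (by simp)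
      · exact hφ _ (by simp)
    rw [e]; rfl
  · have := hg.change_all ![a, b] (by rw [hr]; exact hab) (Or.inl ⟨⟨0, hk⟩⟩)
    simpa using this

/-- two generators `a b`, where `a` is a member of the family of the given presentation: one relator is saved -/
theorem presOn_pair_shared {g : ι → G} (h : PresOn g m) (i : ι) (b : G)
    (hab : Subgroup.closure {g i, b} = ⊤) : PresOn ![g i, b] (m + 1) := by
  have hr : Set.range ![g i, b] = {g i, b} := by
    rw [Matrix.range_cons, Matrix.range_cons, Matrix.range_empty, Set.union_empty]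
    rfl
  have := h.change ![g i, b] (by rw [hr]; exact hab) {0} (fun _ => i) (by simp) (by simp)
  have hc : (Finset.univ \ ({0} : Finset (Fin 2))).card = 1 := by decide
  rwa [hc] at this

theorem presOn_pair_exists {a b : G} (h : PresOn ![a, b] m) :
    ∃ rels : Finset (FreeGroup (Fin 2)), rels.card ≤ m ∧
      ∃ e : PresentedGroup (↑rels : Set (FreeGroup (Fin 2))) ≃* G,
        e (PresentedGroup.of 0) = a ∧ e (PresentedGroup.of 1) = b := by
  obtain ⟨R, h1, e, he⟩ := h.exists_presented
  exact ⟨R, h1, e, he 0, he 1⟩

/-- change from a presentation on `g` (k generators, m relators) to two generators one of which is shared: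
`HasPres G 2 (m + 1)` -/
theorem hasPres_two_of_shared {g : ι → G} (h : PresOn g m) (i : ι) (b : G)
    (hab : Subgroup.closure {g i, b} = ⊤) : HasPres G 2 (m + 1) :=
  (presOn_pair_shared h i b hab).hasPres

/-- adding a redundant generator `w` costs one relator -/
theorem PresOn.cons [Fintype ι] {g : ι → G} (h : PresOn g m) (w : G) :
    PresOn (fun o : Option ι => o.elim w g) (m + 1) := by
  classical
  obtain ⟨hf, R, hR, hk⟩ := h
  by_cases hι : Nonempty ι
  · obtain ⟨i0⟩ := hι
    have := PresOn.change (m := m) ⟨hf, R, hR, hk⟩ (fun o : Option ι => o.elim w g)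
      (by
        rw [eq_top_iff, ← closure_of_surj g hf]
        apply Subgroup.closure_mono
        rintro x ⟨i, rfl⟩
        exact ⟨some i, rfl⟩)
      (Finset.univ.filter fun o => o.isSome) (fun o => o.getD i0)
      (by
        intro i hi j hj hij
        rcases i with _ | i
        · simp at hi
        · rcases j with _ | j
          · simp at hj
          · simpa using hij)
      (by
        intro j hj
        rcases j with _ | j
        · simp at hj
        · rfl)
    have hc : (Finset.univ \ (Finset.univ.filter fun o : Option ι => o.isSome)).card = 1 := by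
      rw [Finset.card_eq_one]
      refine ⟨none, ?_⟩
      ext o
      rcases o with _ | o <;> simp
    rwa [hc] at this
  · have hemp : IsEmpty ι := not_nonempty_iff.1 hι
    have hG : ∀ x : G, x = 1 := by
      intro x
      obtain ⟨y, rfl⟩ := hf x
      have : y = 1 := Subsingleton.elim _ _
      rw [this, map_one]
    have hlen : [(FreeGroup.of none : FreeGroup (Option ι))].length ≤ m + 1 := by simp
    refine (PresOn.of_list _ ?_ [(FreeGroup.of none : FreeGroup (Option ι))] (fun r _ => hG _) ?_).mono hlen
    · rw [eq_top_iff]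
      intro x _
      rw [hG x]
      exact Subgroup.one_mem _
    · intro φ hφ x _
      have e : φ = 1 := by
        ext j
        rcases j with _ | j
        · exact hφ _ (by simp)
        · exact hemp.elim j
      rw [e]; rfl

end Cfsg.Agent.H173.Pres
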