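import Cfsg.Agent.H170.Dat
import Cfsg.Agent.H171.Palin

/-!
# Counting the data of conjugacy classes of orthogonal groups in characteristic two: transfer (helper173)
-/

set_option autoImplicit false

namespace Cfsg.Agent.H173.Num

open Polynomial Cfsg.Agent.H170 Cfsg.Agent.H171

variable {F : Type*} [Field F]

/-- the pairs `(f, a)` of total degree `2 d` -/
def Pairs (F : Type*) [Field F] (d : ℕ) : Set (F[X] × ℕ) :=
  {x | Pal x.1 ∧ x.1.eval 1 ≠ 0 ∧ x.1.natDegree + 2 * x.2 = 2 * d}

theorem pairs_finite [Finite F] (d : ℕ) : (Pairs F d).Finite := (card_pair_le F d).1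

theorem pairs_ncard [Finite F] (d : ℕ) : (Pairs F d).ncard ≤ Nat.card F ^ d := (card_pair_le F d).2

/-- `N m` is finite of size at most `C q ^ m` -/
def Bd {α : Type*} (q : ℕ) (N : ℕ → Set α) (C : ℚ) : Prop :=
  ∀ m, (N m).Finite ∧ ((N m).ncard : ℚ) ≤ C * (q : ℚ) ^ m

/-- one step of the count -/
def Step {α : Type*} (F : Type*) [Field F] (N : ℕ → Set α) (Φ : α → F[X] × ℕ → α) (L c n : ℕ) : Set α :=
  {D | ∃ d m, L * d + c + m = n ∧ ∃ D' ∈ N m, ∃ p ∈ Pairs F d, D = Φ D' p}

theorem geom_le (r : ℚ) (h0 : 0 ≤ r) (h1 : r < 1) (n : ℕ) : ∑ d ∈ Finset.range n, r ^ d ≤ 1 / (1 - r) := by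
  rw [geom_sum_eq h1.ne, ← neg_div_neg_eq, neg_sub, neg_sub]
  apply div_le_div_of_nonneg_right _ (by linarith)
  have : 0 ≤ r ^ n := pow_nonneg h0 n
  linarith

theorem step_subset {α : Type*} (N : ℕ → Set α) (Φ : α → F[X] × ℕ → α) (L c n : ℕ) (hL : 0 < L) :
    Step F N Φ L c n ⊆ ⋃ d ∈ Finset.range (n + 1), (fun x : α × (F[X] × ℕ) => Φ x.1 x.2) ''
      ((if L * d + c ≤ n then N (n - (L * d + c)) else ∅) ×ˢ Pairs F d) := by
  rintro D ⟨d, m, hdm, D', hD', p, hp, rfl⟩
  have hd : d < n + 1 := by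
    have : d ≤ L * d := Nat.le_mul_of_pos_left d hL
    omega
  simp only [Set.mem_iUnion]
  refine ⟨d, Finset.mem_range.2 hd, (D', p), ⟨?_, hp⟩, rfl⟩
  rw [if_pos (by omega), show n - (L * d + c) = m by omega]
  exact hD'

theorem step_finite {α : Type*} [Finite F] {N : ℕ → Set α} (hN : ∀ m, (N m).Finite) (Φ : α → F[X] × ℕ → α)
    (L c n : ℕ) (hL : 0 < L) : (Step F N Φ L c n).Finite := by
  refine Set.Finite.subset ?_ (step_subset N Φ L c n hL)
  refine Set.Finite.biUnion (Finset.finite_toSet _) fun d _ => ?_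
  refine Set.Finite.image _ (Set.Finite.prod ?_ (pairs_finite d))
  split_ifs
  · exact hN _
  · exact Set.finite_empty

theorem step_ncard {α : Type*} [Finite F] {N : ℕ → Set α} (hN : ∀ m, (N m).Finite) (Φ : α → F[X] × ℕ → α)
    (L c n : ℕ) (hL : 0 < L) : (Step F N Φ L c n).ncard ≤
      ∑ d ∈ Finset.range (n + 1), if L * d + c ≤ n then (N (n - (L * d + c))).ncard * Nat.card F ^ d else 0 := by
  classical
  have hfin : ∀ d ∈ Finset.range (n + 1), ((fun x : α × (F[X] × ℕ) => Φ x.1 x.2) ''
      ((if L * d + c ≤ n then N (n - (L * d + c)) else ∅) ×ˢ Pairs F d)).Finite := by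
    intro d _
    refine Set.Finite.image _ (Set.Finite.prod ?_ (pairs_finite d))
    split_ifs
    · exact hN _
    · exact Set.finite_empty
  refine (Set.ncard_le_ncard (step_subset N Φ L c n hL)
    (Set.Finite.biUnion (Finset.finite_toSet _) hfin)).trans ?_
  refine (Finset.set_ncard_biUnion_le _ _).trans (Finset.sum_le_sum fun d _ => ?_)
  split_ifs with h
  · refine (Set.ncard_image_le (Set.Finite.prod (hN _) (pairs_finite d))).trans ?_
    rw [Set.ncard_prod]
    exact Nat.mul_le_mul_left _ (pairs_ncard d)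
  · simp

/-- **the step** for `L ≥ 2` -/
theorem step_bd {α : Type*} [Finite F] {N : ℕ → Set α} {C : ℚ} (hC : 0 ≤ C) (hN : Bd (Nat.card F) N C)
    (Φ : α → F[X] × ℕ → α) (L c n : ℕ) (hL : 2 ≤ L) :
    (Step F N Φ L c n).Finite ∧ ((Step F N Φ L c n).ncard : ℚ) ≤
      C * (1 / (Nat.card F : ℚ)) ^ c * (1 / (1 - (1 / (Nat.card F : ℚ)) ^ (L - 1))) * (Nat.card F : ℚ) ^ n := by
  have hq1 : 1 < Nat.card F := Finite.one_lt_card
  set q := Nat.card F with hq
  set u : ℚ := 1 / q with hu
  have hq0 : (0 : ℚ) < q := by exact_mod_cast (by omega : 0 < q)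
  have huq : u * q = 1 := by rw [hu]; field_simp
  have hu0 : 0 < u := by rw [hu]; positivity
  have hu1 : u < 1 := by
    rw [hu, div_lt_one hq0]; exact_mod_cast hq1
  refine ⟨step_finite (fun m => (hN m).1) Φ L c n (by omega), ?_⟩
  have h1 := step_ncard (F := F) (fun m => (hN m).1) Φ L c n (by omega)
  have h2 : ((Step F N Φ L c n).ncard : ℚ) ≤
      ∑ d ∈ Finset.range (n + 1), C * u ^ c * (u ^ (L - 1)) ^ d * (q : ℚ) ^ n := by
    refine (Nat.cast_le (α := ℚ).2 h1).trans ?_
    rw [Nat.cast_sum]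
    refine Finset.sum_le_sum fun d _ => ?_
    split_ifs with h
    · push_cast
      have h3 := (hN (n - (L * d + c))).2
      have h4 : (q : ℚ) ^ n = (q : ℚ) ^ (n - (L * d + c)) * (q : ℚ) ^ (L * d) * (q : ℚ) ^ c := by
        rw [← pow_add, ← pow_add]; congr 1; omega
      have h5 : (q : ℚ) ^ (L * d) = (q : ℚ) ^ ((L - 1) * d) * (q : ℚ) ^ d := by
        rw [← pow_add]; congr 1
        obtain ⟨l, rfl⟩ : ∃ l, L = l + 1 := ⟨L - 1, by omega⟩
        rw [Nat.add_sub_cancel]; ring
      have h6 : C * u ^ c * (u ^ (L - 1)) ^ d * (q : ℚ) ^ n = C * (q : ℚ) ^ (n - (L * d + c)) * (q : ℚ) ^ d := by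
        rw [h4, h5, ← pow_mul]
        have e1 : u ^ c * (q : ℚ) ^ c = 1 := by rw [← mul_pow, huq, one_pow]
        have e2 : u ^ ((L - 1) * d) * (q : ℚ) ^ ((L - 1) * d) = 1 := by rw [← mul_pow, huq, one_pow]
        calc C * u ^ c * u ^ ((L - 1) * d) * ((q : ℚ) ^ (n - (L * d + c)) *
              ((q : ℚ) ^ ((L - 1) * d) * (q : ℚ) ^ d) * (q : ℚ) ^ c)
            = C * (q : ℚ) ^ (n - (L * d + c)) * (q : ℚ) ^ d * (u ^ c * (q : ℚ) ^ c) *
              (u ^ ((L - 1) * d) * (q : ℚ) ^ ((L - 1) * d)) := by ring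
          _ = _ := by rw [e1, e2]; ring
      rw [h6]
      exact mul_le_mul_of_nonneg_right h3 (by positivity)
    · simp only [Nat.cast_zero]; positivity
  refine h2.trans ?_
  have h7 : ∑ d ∈ Finset.range (n + 1), C * u ^ c * (u ^ (L - 1)) ^ d * (q : ℚ) ^ n =
      C * u ^ c * (∑ d ∈ Finset.range (n + 1), (u ^ (L - 1)) ^ d) * (q : ℚ) ^ n := by
    rw [Finset.mul_sum, Finset.sum_mul]
  rw [h7]
  have h8 := geom_le (u ^ (L - 1)) (by positivity) (pow_lt_one₀ hu0.le hu1 (by omega)) (n + 1)
  apply mul_le_mul_of_nonneg_right _ (by positivity)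
  exact mul_le_mul_of_nonneg_left h8 (by positivity)

/-- **the first step**: `L = 1`, starting with a single element of size zero -/
theorem step_one {α : Type*} [Finite F] (D0 : α)
    (Φ : α → F[X] × ℕ → α) (c n : ℕ) :
    (Step F (fun m => if m = 0 then {D0} else ∅) Φ 1 c n).Finite ∧
      ((Step F (fun m => if m = 0 then {D0} else ∅) Φ 1 c n).ncard : ℚ) ≤
        (1 / (Nat.card F : ℚ)) ^ c * (Nat.card F : ℚ) ^ n := by
  have hfin : ∀ m, ((fun m => if m = 0 then {D0} else ∅ : ℕ → Set α) m).Finite := by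
    intro m
    dsimp only
    split_ifs
    · exact Set.finite_singleton _
    · exact Set.finite_empty
  refine ⟨step_finite hfin Φ 1 c n one_pos, ?_⟩
  have hq1 : 1 < Nat.card F := Finite.one_lt_card
  set q := Nat.card F with hq
  have hq0 : (0 : ℚ) < q := by exact_mod_cast (by omega : 0 < q)
  have h1 := step_ncard (F := F) hfin Φ 1 c n one_pos
  rcases Nat.lt_or_ge n c with hc | hc
  · have h2 : (Step F (fun m => if m = 0 then {D0} else ∅) Φ 1 c n).ncard = 0 := by
      rw [← Nat.le_zero]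
      refine h1.trans (le_of_eq ?_)
      refine Finset.sum_eq_zero fun d _ => ?_
      rw [if_neg (by omega)]
    rw [h2, Nat.cast_zero]
    positivity
  · have h2 : (Step F (fun m => if m = 0 then {D0} else ∅) Φ 1 c n).ncard ≤ q ^ (n - c) := by
      refine h1.trans ?_
      rw [Finset.sum_eq_single (n - c)]
      · rw [if_pos (by omega), if_pos (by omega), Set.ncard_singleton, one_mul]
      · intro d _ hd
        by_cases h : 1 * d + c ≤ n
        · have : n - (1 * d + c) ≠ 0 := by omega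
          rw [if_pos h, if_neg this]; simp
        · rw [if_neg h]
      · intro h
        exfalso
        apply h
        rw [Finset.mem_range]; omega
    have h3 : (q : ℚ) ^ n = (q : ℚ) ^ (n - c) * (q : ℚ) ^ c := by
      rw [← pow_add]; congr 1; omega
    have h4 : (1 / (q : ℚ)) ^ c * (q : ℚ) ^ n = (q : ℚ) ^ (n - c) := by
      rw [h3, mul_comm ((q : ℚ) ^ (n - c)), ← mul_assoc, ← mul_pow, one_div, inv_mul_cancel₀ hq0.ne', one_pow, one_mul]
    rw [h4]
    exact_mod_cast h2

section Levels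

/-- data on the levels `j < J` of `(f, a, s)` and `k < K` of `(b, t)` only, of size `n` -/
structure Pd (J K n : ℕ) (D : Dat F) : Prop where
  pal : ∀ j, Pal (D.f j)
  one : ∀ j, (D.f j).eval 1 ≠ 0
  even : ∀ j, Even (D.f j).natDegree
  zero : D.f 0 = 1 ∧ D.a 0 = 0 ∧ D.b 0 = 0
  bigf : ∀ j, J ≤ j → D.f j = 1 ∧ D.a j = 0
  bigb : ∀ k, K ≤ k → D.b k = 0
  b_le : ∀ k, D.b k ≤ 2
  s_imp : ∀ j, D.s j = true → Odd j ∧ 0 < D.a j ∧ D.b (j / 2) = 0
  t_imp : ∀ k, D.t k = true → 0 < D.b k ∧ D.b (k - 1) = 0 ∧ D.a (2 * k - 1) = 0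
  size : ∑ j ∈ Finset.range J, j * ((D.f j).natDegree / 2 + D.a j) + ∑ k ∈ Finset.range K, k * D.b k = n

/-- normal forms are such data -/
theorem Pd.of_ok {n : ℕ} {D : Dat F} (h : D.Ok n) {J K : ℕ} (hJ : n < J) (hK : n < K) : Pd J K n D where
  pal j := ⟨h.monic j, h.pal j⟩
  one := h.one
  even := h.even
  zero := h.zero
  bigf j hj := ⟨(h.big j (by omega)).1, (h.big j (by omega)).2.1⟩
  bigb k hk := (h.big k (by omega)).2.2
  b_le := h.b_le
  s_imp := h.s_imp
  t_imp := h.t_imp
  size := by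
    have h1 : ∀ (J : ℕ), n < J → ∀ w : ℕ → ℕ, (∀ j, n < j → w j = 0) →
        ∑ j ∈ Finset.range J, w j = ∑ j ∈ Finset.range (n + 1), w j := by
      intro J hJ w hw
      symm
      apply Finset.sum_subset (Finset.range_mono (by omega))
      intro j _ hj
      apply hw
      simpa using hj
    rw [h1 J hJ, h1 K hK, ← Finset.sum_add_distrib, h.size]
    · intro j hj
      rw [(h.big j hj).2.2, mul_zero]
    · intro j hj
      rw [(h.big j hj).1, (h.big j hj).2.1]
      simp

/-- change the entries `f j, a j, s j` and `b k, t k` -/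
noncomputable def upd (j k : ℕ) (D : Dat F) (x : F[X]) (y : ℕ) (s : Bool) (b : ℕ) (t : Bool) : Dat F where
  f := Function.update D.f j x
  a := Function.update D.a j y
  b := Function.update D.b k b
  s := Function.update D.s j s
  t := Function.update D.t k t

theorem upd_upd (j k : ℕ) (D : Dat F) (x : F[X]) (y : ℕ) (s : Bool) (b : ℕ) (t : Bool) (x' : F[X]) (y' : ℕ) (s' : Bool)
    (b' : ℕ) (t' : Bool) : upd j k (upd j k D x y s b t) x' y' s' b' t' = upd j k D x' y' s' b' t' := by
  simp [upd, Function.update_idem]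

theorem upd_self (j k : ℕ) (D : Dat F) : upd j k D (D.f j) (D.a j) (D.s j) (D.b k) (D.t k) = D := by
  simp [upd, Function.update_eq_self]

/-- the entries of level `J` and `K` are removed -/
noncomputable def res (J K : ℕ) (D : Dat F) : Dat F := upd J K D 1 0 false 0 false

theorem eq_upd_res (J K : ℕ) (D : Dat F) : D = upd J K (res J K D) (D.f J) (D.a J) (D.s J) (D.b K) (D.t K) := by
  rw [res, upd_upd, upd_self]

theorem Pd.mem_pairs {J K n : ℕ} {D : Dat F} (h : Pd J K n D) (j : ℕ) :
    (D.f j, D.a j) ∈ Pairs F ((D.f j).natDegree / 2 + D.a j) := by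
  refine ⟨h.pal j, h.one j, ?_⟩
  have := h.even j
  obtain ⟨r, hr⟩ := this
  dsimp only
  omega

/-- removal -/
theorem Pd.res {J K n : ℕ} {D : Dat F} (h : Pd (J + 1) (K + 1) n D) :
    ∃ m, Pd J K m (res J K D) ∧ J * ((D.f J).natDegree / 2 + D.a J) + K * D.b K + m = n := by
  classical
  refine ⟨∑ j ∈ Finset.range J, j * ((D.f j).natDegree / 2 + D.a j) + ∑ k ∈ Finset.range K, k * D.b k, ?_, ?_⟩
  · constructor
    · intro j
      by_cases hj : j = J
      · subst hj; simp [Num.res, upd, Pal.one]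
      · simp [Num.res, upd, hj, h.pal j]
    · intro j
      by_cases hj : j = J
      · subst hj; simp [Num.res, upd]
      · simp [Num.res, upd, hj, h.one j]
    · intro j
      by_cases hj : j = J
      · subst hj; simp [Num.res, upd]
      · simp [Num.res, upd, hj, h.even j]
    · refine ⟨?_, ?_, ?_⟩
      · by_cases hj : 0 = J
        · subst hj; simp [Num.res, upd]
        · simp [Num.res, upd, hj, h.zero.1]
      · by_cases hj : 0 = J
        · subst hj; simp [Num.res, upd]
        · simp [Num.res, upd, hj, h.zero.2.1]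
      · by_cases hj : 0 = K
        · subst hj; simp [Num.res, upd]
        · simp [Num.res, upd, hj, h.zero.2.2]
    · intro j hj
      by_cases hj' : j = J
      · subst hj'; simp [Num.res, upd]
      · have := h.bigf j (by omega)
        simp [Num.res, upd, hj', this.1, this.2]
    · intro k hk
      by_cases hj' : k = K
      · subst hj'; simp [Num.res, upd]
      · have := h.bigb k (by omega)
        simp [Num.res, upd, hj', this]
    · intro k
      by_cases hj' : k = K
      · subst hj'; simp [Num.res, upd]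
      · simp [Num.res, upd, hj', h.b_le k]
    · intro j hs
      by_cases hj : j = J
      · subst hj; simp [Num.res, upd] at hs
      · have hs' : D.s j = true := by simpa [Num.res, upd, hj] using hs
        have h1 := h.s_imp j hs'
        refine ⟨h1.1, ?_, ?_⟩
        · simpa [Num.res, upd, hj] using h1.2.1
        · by_cases hk : j / 2 = K
          · rw [hk]; simp [Num.res, upd]
          · simpa [Num.res, upd, hk] using h1.2.2
    · intro k ht
      by_cases hk : k = K
      · subst hk; simp [Num.res, upd] at ht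
      · have ht' : D.t k = true := by simpa [Num.res, upd, hk] using ht
        have h1 := h.t_imp k ht'
        refine ⟨?_, ?_, ?_⟩
        · simpa [Num.res, upd, hk] using h1.1
        · by_cases hk : k - 1 = K
          · rw [hk]; simp [Num.res, upd]
          · simpa [Num.res, upd, hk] using h1.2.1
        · by_cases hj : 2 * k - 1 = J
          · rw [hj]; simp [Num.res, upd]
          · simpa [Num.res, upd, hj] using h1.2.2
    · congr 1
      · refine Finset.sum_congr rfl fun j hj => ?_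
        have hj' : j ≠ J := (Finset.mem_range.1 hj).ne
        simp [Num.res, upd, hj']
      · refine Finset.sum_congr rfl fun j hj => ?_
        have hj' : j ≠ K := (Finset.mem_range.1 hj).ne
        simp [Num.res, upd, hj']
  · have := h.size
    rw [Finset.sum_range_succ, Finset.sum_range_succ] at this
    omega

/-- adding an empty level for `b` -/
theorem Pd.succK {J K n : ℕ} {D : Dat F} (h : Pd J K n D) : Pd J (K + 1) n D where
  pal := h.pal
  one := h.one
  even := h.even
  zero := h.zero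
  bigf := h.bigf
  bigb k hk := h.bigb k (by omega)
  b_le := h.b_le
  s_imp := h.s_imp
  t_imp := h.t_imp
  size := by
    rw [Finset.sum_range_succ, h.bigb K le_rfl, mul_zero, add_zero, h.size]

/-- the extra condition (symplectic case) -/
def ex (c : Bool) (D : Dat F) : Prop := c = true → D.s 1 = false ∧ D.t 1 = false

theorem ex_res {c : Bool} {D : Dat F} (h : ex c D) (J K : ℕ) : ex c (res J K D) := by
  intro hc
  obtain ⟨h1, h2⟩ := h hc
  constructor
  · by_cases hJ : 1 = J
    · subst hJ; simp [res, upd]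
    · simp [res, upd, hJ, h1]
  · by_cases hJ : 1 = K
    · subst hJ; simp [res, upd]
    · simp [res, upd, hJ, h2]

/-- state `A` : the last `b` is zero -/
def SA (F : Type*) [Field F] (c : Bool) (J K n : ℕ) : Set (Dat F) := {D | Pd J K n D ∧ D.b (K - 1) = 0 ∧ ex c D}

/-- state `B` : the last `b` is positive -/
def SB (F : Type*) [Field F] (c : Bool) (J K n : ℕ) : Set (Dat F) := {D | Pd J K n D ∧ 0 < D.b (K - 1) ∧ ex c D}

/-- reconstruction map, `a` and `b` of the top level, `e` = shift of `a`, `s` = sign of `a`, `t` = sign of `b` -/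
noncomputable def rec1 (J K e : ℕ) (s : Bool) (b : ℕ) (t : Bool) (D : Dat F) (p : F[X] × ℕ) : Dat F :=
  upd J K D p.1 (p.2 + e) s b t

/-- reconstruction map with one bit -/
noncomputable def rec2 (J K b : ℕ) (D : Dat F) (p : F[X] × ℕ) : Dat F :=
  upd J K D p.1 p.2 (decide (0 < p.2)) b (decide (p.2 = 0))

theorem res_b_pred {k : ℕ} (hk : 1 ≤ k) (J : ℕ) (D : Dat F) : (res J k D).b (k - 1) = D.b (k - 1) := by
  have : k - 1 ≠ k := by omega
  simp [res, upd, this]

theorem stepA (c : Bool) {k : ℕ} (hk : 1 ≤ k) (n : ℕ) : SA F c (2 * k) (k + 1) n ⊆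
    Step F (SA F c (2 * k - 1) k) (rec1 (2 * k - 1) k 0 false 0 false) (2 * k - 1) 0 n ∪
    {D ∈ Step F (SA F c (2 * k - 1) k) (rec1 (2 * k - 1) k 1 true 0 false) (2 * k - 1) (2 * k - 1) n |
      D.s (2 * k - 1) = true ∧ ex c D} ∪
    Step F (SB F c (2 * k - 1) k) (rec1 (2 * k - 1) k 0 false 0 false) (2 * k - 1) 0 n := by
  rintro D ⟨hD, hb, hc⟩
  obtain ⟨J, hJ⟩ : ∃ J, 2 * k = J + 1 := ⟨2 * k - 1, by omega⟩
  have hJ' : 2 * k - 1 = J := by omega
  rw [hJ'] at *
  rw [hJ] at hD
  rw [Nat.add_sub_cancel] at hb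
  obtain ⟨m, hm, hsz⟩ := hD.res
  have ht : D.t k = false := by
    by_contra h
    have := (hD.t_imp k (by simpa using h)).1
    omega
  have heq := eq_upd_res J k D
  rw [hb, ht] at heq
  have hp := hD.mem_pairs J
  rw [hb, mul_zero, add_zero] at hsz
  by_cases hb' : D.b (k - 1) = 0
  · left
    rcases hs : D.s J with _ | _
    · left
      refine ⟨_, m, ?_, res J k D, ⟨hm, by rw [res_b_pred hk]; exact hb', ex_res hc J k⟩, _, hp, ?_⟩
      · omega
      · rw [hs] at heq
        exact heq
    · right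
      refine ⟨?_, hs, hc⟩
      have ha := (hD.s_imp J hs).2.1
      refine ⟨(D.f J).natDegree / 2 + (D.a J - 1), m, ?_, res J k D,
        ⟨hm, by rw [res_b_pred hk]; exact hb', ex_res hc J k⟩, (D.f J, D.a J - 1), ⟨hp.1, hp.2.1, ?_⟩, ?_⟩
      · have : (D.f J).natDegree / 2 + D.a J = (D.f J).natDegree / 2 + (D.a J - 1) + 1 := by omega
        rw [this, mul_add, mul_one] at hsz
        exact hsz
      · have := hp.2.2
        dsimp only at this ⊢
        omega
      · have h1 : D.a J - 1 + 1 = D.a J := by omega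
        rw [hs] at heq
        unfold rec1
        dsimp only
        rw [h1]
        exact heq
  · right
    have hs : D.s J = false := by
      by_contra h
      have := (hD.s_imp J (by simpa using h)).2.2
      have h2 : J / 2 = k - 1 := by omega
      rw [h2] at this
      exact hb' this
    refine ⟨_, m, ?_, res J k D, ⟨hm, by rw [res_b_pred hk]; omega, ex_res hc J k⟩, _, hp, ?_⟩
    · omega
    · rw [hs] at heq
      exact heq

theorem stepB (c : Bool) {k : ℕ} (hk : 1 ≤ k) (n : ℕ) : SB F c (2 * k) (k + 1) n ⊆ ⋃ b ∈ ({1, 2} : Finset ℕ),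
    (Step F (SA F c (2 * k - 1) k) (rec1 (2 * k - 1) k 0 false b false) (2 * k - 1) (k * b) n ∪
    {D ∈ Step F (SA F c (2 * k - 1) k) (rec2 (2 * k - 1) k b) (2 * k - 1) (k * b) n |
      (D.s (2 * k - 1) = true ∨ D.t k = true) ∧ ex c D} ∪
    Step F (SB F c (2 * k - 1) k) (rec1 (2 * k - 1) k 0 false b false) (2 * k - 1) (k * b) n) := by
  rintro D ⟨hD, hb, hc⟩
  obtain ⟨J, hJ⟩ : ∃ J, 2 * k = J + 1 := ⟨2 * k - 1, by omega⟩
  have hJ' : 2 * k - 1 = J := by omega
  rw [hJ'] at *
  rw [hJ] at hD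
  rw [Nat.add_sub_cancel] at hb
  obtain ⟨m, hm, hsz⟩ := hD.res
  have heq := eq_upd_res J k D
  have hp := hD.mem_pairs J
  simp only [Set.mem_iUnion]
  refine ⟨D.b k, ?_, ?_⟩
  · have := hD.b_le k
    simp only [Finset.mem_insert, Finset.mem_singleton]
    omega
  by_cases hb' : D.b (k - 1) = 0
  · left
    by_cases hst : D.s J = false ∧ D.t k = false
    · left
      refine ⟨_, m, hsz, res J k D, ⟨hm, by rw [res_b_pred hk]; exact hb', ex_res hc J k⟩, _, hp, ?_⟩
      rw [hst.1, hst.2] at heq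
      exact heq
    · right
      have hst' : D.s J = true ∨ D.t k = true := by
        by_contra h
        rw [not_or, Bool.not_eq_true, Bool.not_eq_true] at h
        exact hst h
      refine ⟨?_, hst', hc⟩
      refine ⟨_, m, hsz, res J k D, ⟨hm, by rw [res_b_pred hk]; exact hb', ex_res hc J k⟩, _, hp, ?_⟩
      unfold rec2
      dsimp only
      by_cases ha : D.a J = 0
      · have hs : D.s J = false := by
          by_contra h
          have := (hD.s_imp J (by simpa using h)).2.1
          omega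
        have ht : D.t k = true := by
          rcases hst' with h | h
          · rw [hs] at h; exact absurd h (by simp)
          · exact h
        rw [hs, ht] at heq
        have h1 : decide (0 < D.a J) = false := by simp [ha]
        have h2 : decide (D.a J = 0) = true := by simp [ha]
        rw [h1, h2]
        exact heq
      · have ht : D.t k = false := by
          by_contra h
          have := (hD.t_imp k (by simpa using h)).2.2
          rw [show 2 * k - 1 = J by omega] at this
          exact ha this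
        have hs : D.s J = true := by
          rcases hst' with h | h
          · exact h
          · rw [ht] at h; exact absurd h (by simp)
        rw [hs, ht] at heq
        have h1 : decide (0 < D.a J) = true := by simp; omega
        have h2 : decide (D.a J = 0) = false := by simp [ha]
        rw [h1, h2]
        exact heq
  · right
    have hs : D.s J = false := by
      by_contra h
      have := (hD.s_imp J (by simpa using h)).2.2
      have h2 : J / 2 = k - 1 := by omega
      rw [h2] at this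
      exact hb' this
    have ht : D.t k = false := by
      by_contra h
      have := (hD.t_imp k (by simpa using h)).2.1
      exact hb' this
    refine ⟨_, m, hsz, res J k D, ⟨hm, by rw [res_b_pred hk]; omega, ex_res hc J k⟩, _, hp, ?_⟩
    rw [hs, ht] at heq
    exact heq

/-- the even levels -/
theorem stepE {k : ℕ} {n : ℕ} {D : Dat F} (hD : Pd (2 * k + 1) (k + 1) n D) (c : Bool) (hc : ex c D) :
    ∃ m, Pd (2 * k) (k + 1) m (res (2 * k) (k + 1) D) ∧
      2 * k * ((D.f (2 * k)).natDegree / 2 + D.a (2 * k)) + m = n ∧ (res (2 * k) (k + 1) D).b k = D.b k ∧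
      ex c (res (2 * k) (k + 1) D) ∧
      D = rec1 (2 * k) (k + 1) 0 false 0 false (res (2 * k) (k + 1) D) (D.f (2 * k), D.a (2 * k)) := by
  obtain ⟨m, hm, hsz⟩ := hD.succK.res
  have hb : D.b (k + 1) = 0 := hD.bigb _ le_rfl
  rw [hb, mul_zero, add_zero] at hsz
  refine ⟨m, hm, hsz, ?_, ex_res hc _ _, ?_⟩
  · simp [res, upd]
  · have heq := eq_upd_res (2 * k) (k + 1) D
    have hs : D.s (2 * k) = false := by
      by_contra h
      have := (hD.s_imp _ (by simpa using h)).1
      rw [← Nat.not_even_iff_odd] at this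
      exact this (even_two_mul k)
    have ht : D.t (k + 1) = false := by
      by_contra h
      have := (hD.t_imp _ (by simpa using h)).1
      omega
    rw [hs, hb, ht] at heq
    exact heq

theorem stepEA (c : Bool) (k n : ℕ) : SA F c (2 * k + 1) (k + 1) n ⊆
    Step F (SA F c (2 * k) (k + 1)) (rec1 (2 * k) (k + 1) 0 false 0 false) (2 * k) 0 n := by
  rintro D ⟨hD, hb, hc⟩
  obtain ⟨m, hm, hsz, h1, h2, h3⟩ := stepE hD c hc
  exact ⟨_, m, by omega, _, ⟨hm, by rw [Nat.add_sub_cancel, h1]; exact hb, h2⟩, _, hD.mem_pairs _, h3⟩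

theorem stepEB (c : Bool) (k n : ℕ) : SB F c (2 * k + 1) (k + 1) n ⊆
    Step F (SB F c (2 * k) (k + 1)) (rec1 (2 * k) (k + 1) 0 false 0 false) (2 * k) 0 n := by
  rintro D ⟨hD, hb, hc⟩
  obtain ⟨m, hm, hsz, h1, h2, h3⟩ := stepE hD c hc
  exact ⟨_, m, by omega, _, ⟨hm, by rw [Nat.add_sub_cancel, h1]; exact hb, h2⟩, _, hD.mem_pairs _, h3⟩

end Levels

section Bounds

/-- `T` is finite of size at most `C q ^ n` -/
def B1 {α : Type*} (q n : ℕ) (T : Set α) (C : ℚ) : Prop := T.Finite ∧ (T.ncard : ℚ) ≤ C * (q : ℚ) ^ n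

theorem B1.subset {α : Type*} {q n : ℕ} {S T : Set α} {C : ℚ} (h : B1 q n T C) (hS : S ⊆ T) : B1 q n S C :=
  ⟨h.1.subset hS, (Nat.cast_le.2 (Set.ncard_le_ncard hS h.1)).trans h.2⟩

theorem B1.union {α : Type*} {q n : ℕ} {S T : Set α} {C C' : ℚ} (h : B1 q n S C) (h' : B1 q n T C') :
    B1 q n (S ∪ T) (C + C') := by
  refine ⟨h.1.union h'.1, ?_⟩
  have h1 : ((S ∪ T).ncard : ℚ) ≤ S.ncard + T.ncard := by exact_mod_cast Set.ncard_union_le S T
  have h2 := h.2
  have h3 := h'.2
  rw [add_mul]
  linarith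

theorem B1.mono {α : Type*} {q n : ℕ} {T : Set α} {C C' : ℚ} (h : B1 q n T C) (hC : C ≤ C') : B1 q n T C' :=
  ⟨h.1, h.2.trans (mul_le_mul_of_nonneg_right hC (by positivity))⟩

theorem B1.empty {α : Type*} {q n : ℕ} {C : ℚ} (hC : 0 ≤ C) : B1 q n (∅ : Set α) C :=
  ⟨Set.finite_empty, by rw [Set.ncard_empty, Nat.cast_zero]; positivity⟩

theorem iUnion_two {α : Type*} (f : ℕ → Set α) : ⋃ b ∈ ({1, 2} : Finset ℕ), f b = f 1 ∪ f 2 := by
  ext x; simp

theorem Step.mono {α : Type*} {N N' : ℕ → Set α} (h : ∀ m, N m ⊆ N' m) (Φ : α → F[X] × ℕ → α) (L c n : ℕ) :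
    Step F N Φ L c n ⊆ Step F N' Φ L c n := by
  rintro D ⟨d, m, h1, D', hD', p, hp, h2⟩
  exact ⟨d, m, h1, D', h m hD', p, hp, h2⟩

/-- the trivial data -/
noncomputable def D0 (F : Type*) [Field F] : Dat F where
  f _ := 1
  a _ := 0
  b _ := 0
  s _ := false
  t _ := false

theorem pd_one {m : ℕ} {D : Dat F} (h : Pd 1 1 m D) : D = D0 F ∧ m = 0 := by
  have hf : D.f = fun _ => 1 := by
    funext j
    rcases Nat.eq_zero_or_pos j with rfl | hj
    · exact h.zero.1
    · exact (h.bigf j hj).1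
  have ha : D.a = fun _ => 0 := by
    funext j
    rcases Nat.eq_zero_or_pos j with rfl | hj
    · exact h.zero.2.1
    · exact (h.bigf j hj).2
  have hb : D.b = fun _ => 0 := by
    funext j
    rcases Nat.eq_zero_or_pos j with rfl | hj
    · exact h.zero.2.2
    · exact h.bigb j hj
  have hs : D.s = fun _ => false := by
    funext j
    by_contra hh
    have := (h.s_imp j (by simpa using hh)).2.1
    rw [ha] at this
    exact absurd this (by simp)
  have ht : D.t = fun _ => false := by
    funext j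
    by_contra hh
    have := (h.t_imp j (by simpa using hh)).1
    rw [hb] at this
    exact absurd this (by simp)
  constructor
  · cases D
    simp only at hf ha hb hs ht
    subst hf ha hb hs ht
    rfl
  · rw [← h.size]
    simp

theorem SA_one (c : Bool) (m : ℕ) : SA F c 1 1 m ⊆ (if m = 0 then {D0 F} else ∅ : Set (Dat F)) := by
  rintro D ⟨hD, -, -⟩
  obtain ⟨h1, h2⟩ := pd_one hD
  rw [if_pos h2, h1]
  rfl

theorem SB_one (c : Bool) (m : ℕ) : SB F c 1 1 m = ∅ := by
  rw [Set.eq_empty_iff_forall_notMem]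
  rintro D ⟨hD, hb, -⟩
  rw [(pd_one hD).1] at hb
  exact absurd hb (by simp [D0])

variable [Finite F]

theorem step_B1 {α : Type*} {N : ℕ → Set α} {C : ℚ} (hC : 0 ≤ C) (hN : ∀ m, B1 (Nat.card F) m (N m) C)
    (Φ : α → F[X] × ℕ → α) (L c n : ℕ) (hL : 2 ≤ L) (u : ℚ) (hu : u = 1 / (Nat.card F : ℚ)) :
    B1 (Nat.card F) n (Step F N Φ L c n) (C * u ^ c * (1 / (1 - u ^ (L - 1)))) := by
  rw [hu]
  exact step_bd hC hN Φ L c n hL

theorem step_one_B1 (Φ : Dat F → F[X] × ℕ → Dat F) (c n : ℕ) (u : ℚ) (hu : u = 1 / (Nat.card F : ℚ))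
    {N : ℕ → Set (Dat F)} (hN : ∀ m, N m ⊆ (if m = 0 then {D0 F} else ∅ : Set (Dat F))) :
    B1 (Nat.card F) n (Step F N Φ 1 c n) (u ^ c) := by
  rw [hu]
  have h := step_one (F := F) (D0 F) Φ c n
  exact B1.subset (q := Nat.card F) (C := (1 / (Nat.card F : ℚ)) ^ c) ⟨h.1, h.2⟩ (Step.mono hN Φ 1 c n)

/-- the bounds after level `2 (k + 1)` -/
def al (c : Bool) (u : ℚ) : ℕ → ℚ × ℚ
  | 0 => ((1 + cond c 0 u) * (1 / (1 - u)), (u + u ^ 2 + cond c 0 (u + u ^ 2)) * (1 / (1 - u)))
  | k + 1 => (((al c u k).1 * (1 + u ^ (2 * k + 3)) + (al c u k).2) *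
      (1 / (1 - u ^ (2 * k + 2))) * (1 / (1 - u ^ (2 * k + 3))),
      (u ^ (k + 2) + u ^ (2 * k + 4)) * (2 * (al c u k).1 + (al c u k).2) *
      (1 / (1 - u ^ (2 * k + 2))) * (1 / (1 - u ^ (2 * k + 3))))

theorem al_nonneg (c : Bool) {u : ℚ} (h0 : 0 ≤ u) (h1 : u < 1) (k : ℕ) : 0 ≤ (al c u k).1 ∧ 0 ≤ (al c u k).2 := by
  have hg : ∀ m : ℕ, 0 ≤ 1 / (1 - u ^ m) := by
    intro m
    apply div_nonneg zero_le_one
    have := pow_le_one₀ (n := m) h0 h1.le
    linarith
  induction k with
  | zero =>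
    have := hg 1
    rw [pow_one] at this
    have hc : 0 ≤ cond c 0 u := by cases c <;> simp [h0]
    have hc' : 0 ≤ cond c 0 (u + u ^ 2) := by cases c <;> first | (simp; positivity) | simp
    constructor
    · unfold al
      exact mul_nonneg (by linarith) this
    · unfold al
      exact mul_nonneg (by positivity) this
  | succ k ih =>
    obtain ⟨i1, i2⟩ := ih
    have g1 := hg (2 * k + 2)
    have g2 := hg (2 * k + 3)
    constructor
    · rw [al]
      exact mul_nonneg (mul_nonneg (by positivity) g1) g2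
    · rw [al]
      exact mul_nonneg (mul_nonneg (by positivity) g1) g2

theorem bound_aux (c : Bool) (u : ℚ) (hu : u = 1 / (Nat.card F : ℚ)) (k : ℕ) : ∀ n,
    B1 (Nat.card F) n (SA F c (2 * (k + 1) + 1) (k + 1 + 1) n) (al c u k).1 ∧
    B1 (Nat.card F) n (SB F c (2 * (k + 1) + 1) (k + 1 + 1) n) (al c u k).2 := by
  have hq1 : 1 < Nat.card F := Finite.one_lt_card
  have hq0 : (0 : ℚ) < Nat.card F := by exact_mod_cast (by omega : 0 < Nat.card F)
  have hu0 : 0 < u := by rw [hu]; positivity
  have hu1 : u < 1 := by rw [hu, div_lt_one hq0]; exact_mod_cast hq1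
  induction k with
  | zero =>
    -- after level 1
    have hA : ∀ n, B1 (Nat.card F) n (SA F c 2 2 n) (1 + cond c 0 u) := by
      intro n
      refine B1.subset ?_ (stepA c le_rfl n)
      have e1 := step_one_B1 (F := F) (rec1 (2 * 1 - 1) 1 0 false 0 false) 0 n u hu (SA_one c)
      rw [pow_zero] at e1
      have e3 : B1 (Nat.card F) n (Step F (SB F c (2 * 1 - 1) 1) (rec1 (2 * 1 - 1) 1 0 false 0 false)
          (2 * 1 - 1) 0 n) 0 := by
        refine B1.subset (B1.empty le_rfl) ?_
        rintro D ⟨d, m, -, D', hD', -⟩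
        have : D' ∈ SB F c 1 1 m := hD'
        rw [SB_one] at this
        exact absurd this (Set.notMem_empty _)
      cases c
      · have e2 := step_one_B1 (F := F) (rec1 (2 * 1 - 1) 1 1 true 0 false) 1 n u hu (SA_one false)
        rw [pow_one] at e2
        have := (e1.union (B1.subset e2 (Set.sep_subset _ (fun D => D.s (2 * 1 - 1) = true ∧ ex false D)))).union e3
        simpa using this
      · have e2 : B1 (Nat.card F) n {D ∈ Step F (SA F true (2 * 1 - 1) 1) (rec1 (2 * 1 - 1) 1 1 true 0 false) (2 * 1 - 1)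
            (2 * 1 - 1) n | D.s (2 * 1 - 1) = true ∧ ex true D} 0 := by
          refine B1.subset (B1.empty le_rfl) ?_
          rintro D ⟨-, h1, h2⟩
          have := (h2 rfl).1
          simp [this] at h1
        have := (e1.union e2).union e3
        simpa using this
    have hB : ∀ n, B1 (Nat.card F) n (SB F c 2 2 n) (u + u ^ 2 + cond c 0 (u + u ^ 2)) := by
      intro n
      refine B1.subset ?_ (stepB c le_rfl n)
      rw [iUnion_two]
      have key : ∀ b : ℕ, B1 (Nat.card F) n (Step F (SA F c (2 * 1 - 1) 1) (rec1 (2 * 1 - 1) 1 0 false b false) (2 * 1 - 1)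
          (1 * b) n ∪
          {D ∈ Step F (SA F c (2 * 1 - 1) 1) (rec2 (2 * 1 - 1) 1 b) (2 * 1 - 1) (1 * b) n |
            (D.s (2 * 1 - 1) = true ∨ D.t 1 = true) ∧ ex c D} ∪
          Step F (SB F c (2 * 1 - 1) 1) (rec1 (2 * 1 - 1) 1 0 false b false) (2 * 1 - 1) (1 * b) n)
          (u ^ b + cond c 0 (u ^ b)) := by
        intro b
        have e1 := step_one_B1 (F := F) (rec1 (2 * 1 - 1) 1 0 false b false) (1 * b) n u hu (SA_one c)
        have e3 : B1 (Nat.card F) n (Step F (SB F c (2 * 1 - 1) 1) (rec1 (2 * 1 - 1) 1 0 false b false)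
            (2 * 1 - 1) (1 * b) n) 0 := by
          refine B1.subset (B1.empty le_rfl) ?_
          rintro D ⟨d, m, -, D', hD', -⟩
          have : D' ∈ SB F c 1 1 m := hD'
          rw [SB_one] at this
          exact absurd this (Set.notMem_empty _)
        cases c
        · have e2 := step_one_B1 (F := F) (rec2 (2 * 1 - 1) 1 b) (1 * b) n u hu (SA_one false)
          have := (e1.union (B1.subset e2 (Set.sep_subset _
            (fun D => (D.s (2 * 1 - 1) = true ∨ D.t 1 = true) ∧ ex false D)))).union e3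
          simpa using this
        · have e2 : B1 (Nat.card F) n {D ∈ Step F (SA F true (2 * 1 - 1) 1) (rec2 (2 * 1 - 1) 1 b) (2 * 1 - 1)
              (1 * b) n | (D.s (2 * 1 - 1) = true ∨ D.t 1 = true) ∧ ex true D} 0 := by
            refine B1.subset (B1.empty le_rfl) ?_
            rintro D ⟨-, h1, h2⟩
            have h3 := h2 rfl
            rcases h1 with h1 | h1
            · simp [h3.1] at h1
            · simp [h3.2] at h1
          have := (e1.union e2).union e3
          simpa using this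
      refine ((key 1).union (key 2)).mono (le_of_eq ?_)
      cases c
      · simp only [cond_false]; ring
      · simp only [cond_true]; ring
    intro n
    have hc : 0 ≤ cond c 0 u := by cases c <;> simp [hu0.le]
    have hc' : 0 ≤ cond c 0 (u + u ^ 2) := by cases c <;> first | (simp; positivity) | simp
    constructor
    · refine (B1.subset (step_B1 (by linarith) hA _ (2 * 1) 0 n le_rfl u hu) (stepEA c 1 n)).mono (le_of_eq ?_)
      simp [al]
    · refine (B1.subset (step_B1 (by positivity) hB _ (2 * 1) 0 n le_rfl u hu) (stepEB c 1 n)).mono (le_of_eq ?_)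
      simp [al]
  | succ k ih =>
    obtain ⟨n1, n2⟩ := al_nonneg c hu0.le hu1 k
    have ihA : ∀ m, B1 (Nat.card F) m (SA F c (2 * (k + 2) - 1) (k + 2) m) (al c u k).1 := fun m => by
      have := (ih m).1
      rwa [show 2 * (k + 1) + 1 = 2 * (k + 2) - 1 by omega, show k + 1 + 1 = k + 2 by omega] at this
    have ihB : ∀ m, B1 (Nat.card F) m (SB F c (2 * (k + 2) - 1) (k + 2) m) (al c u k).2 := fun m => by
      have := (ih m).2
      rwa [show 2 * (k + 1) + 1 = 2 * (k + 2) - 1 by omega, show k + 1 + 1 = k + 2 by omega] at this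
    set α := (al c u k).1 with hα
    set β := (al c u k).2 with hβ
    have hg : ∀ m : ℕ, 0 ≤ 1 / (1 - u ^ m) := by
      intro m
      apply div_nonneg zero_le_one
      have := pow_le_one₀ (n := m) hu0.le hu1.le
      linarith
    have hexp : 2 * (k + 2) - 1 - 1 = 2 * k + 2 := by omega
    have hA : ∀ n, B1 (Nat.card F) n (SA F c (2 * (k + 2)) (k + 2 + 1) n)
        ((α * (1 + u ^ (2 * k + 3)) + β) * (1 / (1 - u ^ (2 * k + 2)))) := by
      intro n
      refine (B1.subset ?_ (stepA c (show 1 ≤ k + 2 by omega) n)).mono (le_of_eq (?_ :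
        α * u ^ 0 * (1 / (1 - u ^ (2 * (k + 2) - 1 - 1))) +
        α * u ^ (2 * (k + 2) - 1) * (1 / (1 - u ^ (2 * (k + 2) - 1 - 1))) +
        β * u ^ 0 * (1 / (1 - u ^ (2 * (k + 2) - 1 - 1))) = _))
      · exact ((step_B1 n1 ihA _ _ 0 n (by omega) u hu).union
          (B1.subset (step_B1 n1 ihA _ _ _ n (by omega) u hu) (Set.sep_subset _ _))).union
          (step_B1 n2 ihB _ _ 0 n (by omega) u hu)
      · rw [hexp, show 2 * (k + 2) - 1 = 2 * k + 3 by omega]; ring
    have hB : ∀ n, B1 (Nat.card F) n (SB F c (2 * (k + 2)) (k + 2 + 1) n)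
        ((u ^ (k + 2) + u ^ (2 * k + 4)) * (2 * α + β) * (1 / (1 - u ^ (2 * k + 2)))) := by
      intro n
      refine B1.subset ?_ (stepB c (show 1 ≤ k + 2 by omega) n)
      rw [iUnion_two]
      have key : ∀ b : ℕ, B1 (Nat.card F) n
          (Step F (SA F c (2 * (k + 2) - 1) (k + 2)) (rec1 (2 * (k + 2) - 1) (k + 2) 0 false b false) (2 * (k + 2) - 1)
            ((k + 2) * b) n ∪
          {D ∈ Step F (SA F c (2 * (k + 2) - 1) (k + 2)) (rec2 (2 * (k + 2) - 1) (k + 2) b) (2 * (k + 2) - 1)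
            ((k + 2) * b) n | (D.s (2 * (k + 2) - 1) = true ∨ D.t (k + 2) = true) ∧ ex c D} ∪
          Step F (SB F c (2 * (k + 2) - 1) (k + 2)) (rec1 (2 * (k + 2) - 1) (k + 2) 0 false b false)
            (2 * (k + 2) - 1) ((k + 2) * b) n)
          (α * u ^ ((k + 2) * b) * (1 / (1 - u ^ (2 * (k + 2) - 1 - 1))) +
            α * u ^ ((k + 2) * b) * (1 / (1 - u ^ (2 * (k + 2) - 1 - 1))) +
            β * u ^ ((k + 2) * b) * (1 / (1 - u ^ (2 * (k + 2) - 1 - 1)))) := by
        intro b
        exact ((step_B1 n1 ihA _ _ _ n (by omega) u hu).union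
          (B1.subset (step_B1 n1 ihA _ _ _ n (by omega) u hu) (Set.sep_subset _ _))).union
          (step_B1 n2 ihB _ _ _ n (by omega) u hu)
      refine ((key 1).union (key 2)).mono (le_of_eq ?_)
      rw [hexp, show (k + 2) * 1 = k + 2 by omega, show (k + 2) * 2 = 2 * k + 4 by omega]
      ring
    intro n
    have hexp2 : 2 * (k + 2) - 1 = 2 * k + 3 := by omega
    constructor
    · refine (B1.subset (step_B1 ?_ hA _ (2 * (k + 2)) 0 n (by omega) u hu) (stepEA c (k + 2) n)).mono (le_of_eq ?_)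
      · exact mul_nonneg (by positivity) (hg _)
      · rw [al, hexp2, pow_zero, mul_one]
    · refine (B1.subset (step_B1 ?_ hB _ (2 * (k + 2)) 0 n (by omega) u hu) (stepEB c (k + 2) n)).mono (le_of_eq ?_)
      · exact mul_nonneg (by positivity) (hg _)
      · rw [al, hexp2, pow_zero, mul_one]

/-- **the transfer bound** -/
theorem card_ok_le (c : Bool) (u : ℚ) (hu : u = 1 / (Nat.card F : ℚ)) (n : ℕ) :
    Finite {D : Dat F // D.Ok n ∧ ex c D} ∧
    (Nat.card {D : Dat F // D.Ok n ∧ ex c D} : ℚ) ≤ ((al c u n).1 + (al c u n).2) * (Nat.card F : ℚ) ^ n := by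
  have h := bound_aux (F := F) c u hu n n
  have hsub : {D : Dat F | D.Ok n ∧ ex c D} ⊆
      SA F c (2 * (n + 1) + 1) (n + 1 + 1) n ∪ SB F c (2 * (n + 1) + 1) (n + 1 + 1) n := by
    rintro D ⟨hD, hc⟩
    have h1 := Pd.of_ok hD (show n < 2 * (n + 1) + 1 by omega) (show n < n + 1 + 1 by omega)
    rcases Nat.eq_zero_or_pos (D.b (n + 1 + 1 - 1)) with h2 | h2
    · exact Or.inl ⟨h1, h2, hc⟩
    · exact Or.inr ⟨h1, h2, hc⟩
  exact B1.subset (h.1.union h.2) hsub

end Bounds

end Cfsg.Agent.H173.Num
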