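import Cfsg.Agent.H173.NumDat

/-!
# The counting engine with a general family of entries (helper173)
-/

set_option autoImplicit false

namespace Cfsg.Agent.H173.Num

/-- one step of the count; `P d` = entries of size `d` -/
def StepG {α β : Type*} (P : ℕ → Set β) (N : ℕ → Set α) (Φ : α → β → α) (L c n : ℕ) : Set α :=
  {D | ∃ d m, L * d + c + m = n ∧ ∃ D' ∈ N m, ∃ p ∈ P d, D = Φ D' p}

section

variable {α β : Type*} {P : ℕ → Set β}

theorem stepG_subset (N : ℕ → Set α) (Φ : α → β → α) (L c n : ℕ) (hL : 0 < L) :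
    StepG P N Φ L c n ⊆ ⋃ d ∈ Finset.range (n + 1), (fun x : α × β => Φ x.1 x.2) ''
      ((if L * d + c ≤ n then N (n - (L * d + c)) else ∅) ×ˢ P d) := by
  rintro D ⟨d, m, hdm, D', hD', p, hp, rfl⟩
  have hd : d < n + 1 := by
    have : d ≤ L * d := Nat.le_mul_of_pos_left d hL
    omega
  simp only [Set.mem_iUnion]
  refine ⟨d, Finset.mem_range.2 hd, (D', p), ⟨?_, hp⟩, rfl⟩
  rw [if_pos (by omega), show n - (L * d + c) = m by omega]
  exact hD'

theorem stepG_finite (hP : ∀ d, (P d).Finite) {N : ℕ → Set α} (hN : ∀ m, (N m).Finite) (Φ : α → β → α)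
    (L c n : ℕ) (hL : 0 < L) : (StepG P N Φ L c n).Finite := by
  refine Set.Finite.subset ?_ (stepG_subset N Φ L c n hL)
  refine Set.Finite.biUnion (Finset.finite_toSet _) fun d _ => ?_
  refine Set.Finite.image _ (Set.Finite.prod ?_ (hP d))
  split_ifs
  · exact hN _
  · exact Set.finite_empty

theorem stepG_ncard {q : ℕ} (hP : ∀ d, (P d).Finite ∧ (P d).ncard ≤ q ^ d) {N : ℕ → Set α} (hN : ∀ m, (N m).Finite)
    (Φ : α → β → α) (L c n : ℕ) (hL : 0 < L) : (StepG P N Φ L c n).ncard ≤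
      ∑ d ∈ Finset.range (n + 1), if L * d + c ≤ n then (N (n - (L * d + c))).ncard * q ^ d else 0 := by
  classical
  have hfin : ∀ d ∈ Finset.range (n + 1), ((fun x : α × β => Φ x.1 x.2) ''
      ((if L * d + c ≤ n then N (n - (L * d + c)) else ∅) ×ˢ P d)).Finite := by
    intro d _
    refine Set.Finite.image _ (Set.Finite.prod ?_ (hP d).1)
    split_ifs
    · exact hN _
    · exact Set.finite_empty
  refine (Set.ncard_le_ncard (stepG_subset N Φ L c n hL)
    (Set.Finite.biUnion (Finset.finite_toSet _) hfin)).trans ?_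
  refine (Finset.set_ncard_biUnion_le _ _).trans (Finset.sum_le_sum fun d _ => ?_)
  split_ifs with h
  · refine (Set.ncard_image_le (Set.Finite.prod (hN _) (hP d).1)).trans ?_
    rw [Set.ncard_prod]
    exact Nat.mul_le_mul_left _ (hP d).2
  · simp

/-- **the step** for `L ≥ 2` -/
theorem stepG_B1 {q : ℕ} (hq1 : 1 < q) (hP : ∀ d, (P d).Finite ∧ (P d).ncard ≤ q ^ d) {N : ℕ → Set α} {C : ℚ}
    (hC : 0 ≤ C) (hN : ∀ m, B1 q m (N m) C) (Φ : α → β → α) (L c n : ℕ) (hL : 2 ≤ L) {u : ℚ} (hu : u = 1 / (q : ℚ)) :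
    B1 q n (StepG P N Φ L c n) (C * u ^ c * (1 / (1 - u ^ (L - 1)))) := by
  have hq0 : (0 : ℚ) < q := by exact_mod_cast (by omega : 0 < q)
  have huq : u * q = 1 := by rw [hu]; field_simp
  have hu0 : 0 < u := by rw [hu]; positivity
  have hu1 : u < 1 := by
    rw [hu, div_lt_one hq0]; exact_mod_cast hq1
  refine ⟨stepG_finite (fun d => (hP d).1) (fun m => (hN m).1) Φ L c n (by omega), ?_⟩
  have h1 := stepG_ncard hP (fun m => (hN m).1) Φ L c n (by omega)
  have h2 : ((StepG P N Φ L c n).ncard : ℚ) ≤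
      ∑ d ∈ Finset.range (n + 1), C * u ^ c * (u ^ (L - 1)) ^ d * (q : ℚ) ^ n := by
    refine (Nat.cast_le (α := ℚ).2 h1).trans ?_
    rw [Nat.cast_sum]
    refine Finset.sum_le_sum fun d _ => ?_
    split_ifs with h
    · push_cast
      have h3 := (hN (n - (L * d + c))).2
      have h4 : (q : ℚ) ^ n = (q : ℚ) ^ (n - (L * d + c)) * (q : ℚ) ^ (L * d) * (q : ℚ) ^ c := by
        rw [← pow_add, ← pow_add]; congr 1; omega
      have h5 : (q : ℚ) ^ (L * d) = (q : ℚ) ^ ((L - 1) * d) * (q : ℚ) ^ d := by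
        rw [← pow_add]; congr 1
        obtain ⟨l, rfl⟩ : ∃ l, L = l + 1 := ⟨L - 1, by omega⟩
        rw [Nat.add_sub_cancel]; ring
      have h6 : C * u ^ c * (u ^ (L - 1)) ^ d * (q : ℚ) ^ n = C * (q : ℚ) ^ (n - (L * d + c)) * (q : ℚ) ^ d := by
        rw [h4, h5, ← pow_mul]
        have e1 : u ^ c * (q : ℚ) ^ c = 1 := by rw [← mul_pow, huq, one_pow]
        have e2 : u ^ ((L - 1) * d) * (q : ℚ) ^ ((L - 1) * d) = 1 := by rw [← mul_pow, huq, one_pow]
        calc C * u ^ c * u ^ ((L - 1) * d) * ((q : ℚ) ^ (n - (L * d + c)) *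
              ((q : ℚ) ^ ((L - 1) * d) * (q : ℚ) ^ d) * (q : ℚ) ^ c)
            = C * (q : ℚ) ^ (n - (L * d + c)) * (q : ℚ) ^ d * (u ^ c * (q : ℚ) ^ c) *
              (u ^ ((L - 1) * d) * (q : ℚ) ^ ((L - 1) * d)) := by ring
          _ = _ := by rw [e1, e2]; ring
      rw [h6]
      exact mul_le_mul_of_nonneg_right h3 (by positivity)
    · simp only [Nat.cast_zero]; positivity
  refine h2.trans ?_
  have h7 : ∑ d ∈ Finset.range (n + 1), C * u ^ c * (u ^ (L - 1)) ^ d * (q : ℚ) ^ n =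
      C * u ^ c * (∑ d ∈ Finset.range (n + 1), (u ^ (L - 1)) ^ d) * (q : ℚ) ^ n := by
    rw [Finset.mul_sum, Finset.sum_mul]
  rw [h7]
  have h8 := geom_le (u ^ (L - 1)) (by positivity) (pow_lt_one₀ hu0.le hu1 (by omega)) (n + 1)
  apply mul_le_mul_of_nonneg_right _ (by positivity)
  exact mul_le_mul_of_nonneg_left h8 (by positivity)

/-- **the first step**: `L = 1`, starting with a single element of size zero -/
theorem stepG_one {q : ℕ} (hq1 : 1 < q) (hP : ∀ d, (P d).Finite ∧ (P d).ncard ≤ q ^ d) {N : ℕ → Set α} (D0 : α)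
    (hN : ∀ m, N m ⊆ (if m = 0 then {D0} else ∅ : Set α))
    (Φ : α → β → α) (c n : ℕ) {u : ℚ} (hu : u = 1 / (q : ℚ)) :
    B1 q n (StepG P N Φ 1 c n) (u ^ c) := by
  have hfin : ∀ m, (N m).Finite := by
    intro m
    refine Set.Finite.subset ?_ (hN m)
    split_ifs
    · exact Set.finite_singleton _
    · exact Set.finite_empty
  have hone : ∀ m, (N m).ncard ≤ if m = 0 then 1 else 0 := by
    intro m
    have hfin' : (if m = 0 then {D0} else ∅ : Set α).Finite := by
      split_ifs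
      · exact Set.finite_singleton _
      · exact Set.finite_empty
    refine (Set.ncard_le_ncard (hN m) hfin').trans ?_
    split_ifs
    · rw [Set.ncard_singleton]
    · rw [Set.ncard_empty]
  refine ⟨stepG_finite (fun d => (hP d).1) hfin Φ 1 c n one_pos, ?_⟩
  have hq0 : (0 : ℚ) < q := by exact_mod_cast (by omega : 0 < q)
  have h1 := stepG_ncard hP hfin Φ 1 c n one_pos
  rw [hu]
  rcases Nat.lt_or_ge n c with hc | hc
  · have h2 : (StepG P N Φ 1 c n).ncard = 0 := by
      rw [← Nat.le_zero]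
      refine h1.trans (le_of_eq ?_)
      refine Finset.sum_eq_zero fun d _ => ?_
      rw [if_neg (by omega)]
    rw [h2, Nat.cast_zero]
    positivity
  · have h2 : (StepG P N Φ 1 c n).ncard ≤ q ^ (n - c) := by
      refine h1.trans ?_
      rw [Finset.sum_eq_single (n - c)]
      · rw [if_pos (by omega)]
        have := hone (n - (1 * (n - c) + c))
        rw [if_pos (by omega)] at this
        calc _ ≤ 1 * q ^ (n - c) := Nat.mul_le_mul_right _ this
          _ = _ := one_mul _
      · intro d _ hd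
        by_cases h : 1 * d + c ≤ n
        · have h0 : n - (1 * d + c) ≠ 0 := by omega
          have := hone (n - (1 * d + c))
          rw [if_neg h0, Nat.le_zero] at this
          rw [if_pos h, this, zero_mul]
        · rw [if_neg h]
      · intro h
        exfalso
        apply h
        rw [Finset.mem_range]; omega
    have h3 : (q : ℚ) ^ n = (q : ℚ) ^ (n - c) * (q : ℚ) ^ c := by
      rw [← pow_add]; congr 1; omega
    have h4 : (1 / (q : ℚ)) ^ c * (q : ℚ) ^ n = (q : ℚ) ^ (n - c) := by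
      rw [h3, mul_comm ((q : ℚ) ^ (n - c)), ← mul_assoc, ← mul_pow, one_div, inv_mul_cancel₀ hq0.ne', one_pow, one_mul]
    rw [h4]
    exact_mod_cast h2

theorem B1.biUnion {ι : Type*} {q n : ℕ} (s : Finset ι) (T : ι → Set α) (C : ι → ℚ)
    (h : ∀ i ∈ s, B1 q n (T i) (C i)) : B1 q n (⋃ i ∈ s, T i) (∑ i ∈ s, C i) := by
  classical
  induction s using Finset.induction_on with
  | empty =>
    simp only [Finset.notMem_empty, Set.iUnion_of_empty, Set.iUnion_empty, Finset.sum_empty]
    exact B1.empty le_rfl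
  | insert i s hi ih =>
    rw [Finset.sum_insert hi, Finset.set_biUnion_insert]
    exact (h i (Finset.mem_insert_self _ _)).union (ih fun j hj => h j (Finset.mem_insert_of_mem hj))

theorem B1.iUnion {ι : Type*} [Fintype ι] {q n : ℕ} (T : ι → Set α) (C : ι → ℚ)
    (h : ∀ i, B1 q n (T i) (C i)) : B1 q n (⋃ i, T i) (∑ i, C i) := by
  have := B1.biUnion Finset.univ T C fun i _ => h i
  simpa using this

end

end Cfsg.Agent.H173.Num
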