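import Cfsg.Agent.H173.NumGen
import Cfsg.Agent.H169.ODat

/-!
# Counting the data of conjugacy classes of orthogonal groups in odd characteristic: transfer (helper173)
-/

set_option autoImplicit false

namespace Cfsg.Agent.H173.NumOdd

open Polynomial Cfsg.Agent.H169 Cfsg.Agent.H171 Cfsg.Agent.H173.Num

variable {F : Type*} [Field F]

/-- the triples `(f, α, β)` of total degree `2 d` -/
def Triples (F : Type*) [Field F] (d : ℕ) : Set (F[X] × ℕ × ℕ) :=
  {x | Pal x.1 ∧ x.1.eval 1 ≠ 0 ∧ x.1.eval (-1) ≠ 0 ∧ x.1.natDegree + 2 * x.2.1 + 2 * x.2.2 = 2 * d}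

theorem triples [Finite F] (h2 : (2 : F) ≠ 0) (d : ℕ) :
    (Triples F d).Finite ∧ (Triples F d).ncard ≤ Nat.card F ^ d := card_triple_le F h2 d

/-- data on the levels `j < J`, of dimension `N` -/
structure Pdo (J N : ℕ) (D : ODat F) : Prop where
  pal : ∀ j, Pal (D.f j)
  one : ∀ j, (D.f j).eval 1 ≠ 0
  neg_one : ∀ j, (D.f j).eval (-1) ≠ 0
  even : ∀ j, Even (D.f j).natDegree
  zero : D.f 0 = 1 ∧ ∀ e, D.a e 0 = 0
  big : ∀ j, J ≤ j → D.f j = 1 ∧ ∀ e, D.a e j = 0
  a_even : ∀ e j, Even j → Even (D.a e j)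
  s_imp : ∀ e j, D.s e j = true → Odd j ∧ 0 < D.a e j
  size : ∑ j ∈ Finset.range J, j * ((D.f j).natDegree + D.a true j + D.a false j) = N

theorem Pdo.of_ok {N : ℕ} {D : ODat F} (h : D.Ok N) {J : ℕ} (hJ : N < J) : Pdo J N D where
  pal j := ⟨h.monic j, h.pal j⟩
  one := h.one
  neg_one := h.neg_one
  even := h.even
  zero := h.zero
  big j hj := h.big j (by omega)
  a_even := h.a_even
  s_imp := h.s_imp
  size := by
    conv_rhs => rw [← h.size]
    symm
    apply Finset.sum_subset (Finset.range_mono (by omega))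
    intro j _ hj
    have := h.big j (by simpa using hj)
    rw [this.1, this.2, this.2]
    simp

/-- change the entries of level `j` -/
noncomputable def updo (j : ℕ) (D : ODat F) (x : F[X]) (y z : ℕ) (s t : Bool) : ODat F where
  f := Function.update D.f j x
  a e := Function.update (D.a e) j (cond e y z)
  s e := Function.update (D.s e) j (cond e s t)

/-- removal of level `j` -/
noncomputable def reso (j : ℕ) (D : ODat F) : ODat F := updo j D 1 0 0 false false

theorem eq_updo_reso (j : ℕ) (D : ODat F) :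
    D = updo j (reso j D) (D.f j) (D.a true j) (D.a false j) (D.s true j) (D.s false j) := by
  have h1 : ∀ e, Function.update (Function.update (D.a e) j (cond e 0 0)) j (cond e (D.a true j) (D.a false j)) =
      D.a e := by
    intro e
    rw [Function.update_idem]
    cases e <;> simp
  have h2 : ∀ e, Function.update (Function.update (D.s e) j (cond e false false)) j
      (cond e (D.s true j) (D.s false j)) = D.s e := by
    intro e
    rw [Function.update_idem]
    cases e <;> simp
  unfold updo reso updo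
  simp only [Function.update_idem, Function.update_eq_self]
  cases D
  simp only [ODat.mk.injEq, true_and]
  constructor
  · funext e
    have := h1 e
    rw [Function.update_idem] at this
    exact this.symm
  · funext e
    have := h2 e
    rw [Function.update_idem] at this
    exact this.symm

theorem Pdo.reso {J N : ℕ} {D : ODat F} (h : Pdo (J + 1) N D) :
    ∃ m, Pdo J m (reso J D) ∧ J * ((D.f J).natDegree + D.a true J + D.a false J) + m = N := by
  classical
  refine ⟨∑ j ∈ Finset.range J, j * ((D.f j).natDegree + D.a true j + D.a false j), ?_, ?_⟩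
  · constructor
    · intro j
      by_cases hj : j = J
      · subst hj; simp [NumOdd.reso, updo, Pal.one]
      · simp [NumOdd.reso, updo, hj, h.pal j]
    · intro j
      by_cases hj : j = J
      · subst hj; simp [NumOdd.reso, updo]
      · simp [NumOdd.reso, updo, hj, h.one j]
    · intro j
      by_cases hj : j = J
      · subst hj; simp [NumOdd.reso, updo]
      · simp [NumOdd.reso, updo, hj, h.neg_one j]
    · intro j
      by_cases hj : j = J
      · subst hj; simp [NumOdd.reso, updo]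
      · simp [NumOdd.reso, updo, hj, h.even j]
    · refine ⟨?_, ?_⟩
      · by_cases hj : 0 = J
        · subst hj; simp [NumOdd.reso, updo]
        · simp [NumOdd.reso, updo, hj, h.zero.1]
      · intro e
        by_cases hj : 0 = J
        · subst hj; cases e <;> simp [NumOdd.reso, updo]
        · simp [NumOdd.reso, updo, hj, h.zero.2]
    · intro j hj
      by_cases hj' : j = J
      · subst hj'
        refine ⟨by simp [NumOdd.reso, updo], fun e => ?_⟩
        cases e <;> simp [NumOdd.reso, updo]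
      · have := h.big j (by omega)
        simp [NumOdd.reso, updo, hj', this.1, this.2]
    · intro e j hj
      by_cases hj' : j = J
      · subst hj'; cases e <;> simp [NumOdd.reso, updo]
      · simp [NumOdd.reso, updo, hj', h.a_even e j hj]
    · intro e j hs
      by_cases hj : j = J
      · subst hj; cases e <;> simp [NumOdd.reso, updo] at hs
      · have hs' : D.s e j = true := by simpa [NumOdd.reso, updo, hj] using hs
        have h1 := h.s_imp e j hs'
        refine ⟨h1.1, ?_⟩
        simpa [NumOdd.reso, updo, hj] using h1.2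
    · refine Finset.sum_congr rfl fun j hj => ?_
      have hj' : j ≠ J := (Finset.mem_range.1 hj).ne
      simp [NumOdd.reso, updo, hj']
  · have := h.size
    rw [Finset.sum_range_succ] at this
    omega

/-- the options for one eigenvalue at an odd level: shift and sign -/
def opt : Fin 4 → ℕ × Bool := ![(0, false), (1, false), (1, true), (2, true)]

theorem exists_opt (A : ℕ) (s : Bool) (hs : s = true → 0 < A) :
    ∃ (i : Fin 4) (α : ℕ), A = 2 * α + (opt i).1 ∧ s = (opt i).2 := by
  rcases Nat.even_or_odd A with hA | hA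
  · obtain ⟨r, hr⟩ := hA
    cases s
    · exact ⟨0, r, by simp [opt]; omega, rfl⟩
    · have := hs rfl
      exact ⟨3, r - 1, by simp [opt]; omega, rfl⟩
  · obtain ⟨r, hr⟩ := hA
    cases s
    · exact ⟨1, r, by simp [opt]; omega, rfl⟩
    · exact ⟨2, r, by simp [opt]; omega, rfl⟩

/-- reconstruction -/
noncomputable def reco (J : ℕ) (i k : Fin 4) (D : ODat F) (p : F[X] × ℕ × ℕ) : ODat F :=
  updo J D p.1 (2 * p.2.1 + (opt i).1) (2 * p.2.2 + (opt k).1) (opt i).2 (opt k).2

/-- the sets, by parity of the dimension -/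
def SO (F : Type*) [Field F] (J ε n : ℕ) : Set (ODat F) := {D | Pdo J (2 * n + ε) D}

/-- the cost -/
def cost (J ε : ℕ) (i k : Fin 4) : ℕ :=
  (J * ((opt i).1 + (opt k).1) + (ε + (opt i).1 + (opt k).1) % 2 - ε) / 2

theorem step_odd {J : ℕ} (hJ : Odd J) (ε : ℕ) (hε : ε < 2) (n : ℕ) : SO F (J + 1) ε n ⊆ ⋃ x : Fin 4 × Fin 4,
    StepG (Triples F) (SO F J ((ε + (opt x.1).1 + (opt x.2).1) % 2)) (reco J x.1 x.2) J (cost J ε x.1 x.2) n := by
  rintro D (hD : Pdo (J + 1) (2 * n + ε) D)
  obtain ⟨m, hm, hsz⟩ := hD.reso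
  obtain ⟨i, α, hi, hi'⟩ := exists_opt (D.a true J) (D.s true J) fun h => (hD.s_imp _ _ h).2
  obtain ⟨k, β, hk, hk'⟩ := exists_opt (D.a false J) (D.s false J) fun h => (hD.s_imp _ _ h).2
  obtain ⟨r, hr⟩ := hD.even J
  obtain ⟨l, hl⟩ := hJ
  simp only [Set.mem_iUnion]
  refine ⟨(i, k), r + α + β, m / 2, ?_, reso J D, ?_, (D.f J, α, β), ⟨hD.pal J, hD.one J, hD.neg_one J, ?_⟩, ?_⟩
  · rw [hi, hk, hr] at hsz
    unfold cost
    set t := (opt i).1 + (opt k).1 with ht
    have e1 : J * (r + r + (2 * α + (opt i).1) + (2 * β + (opt k).1)) = 2 * (J * (r + α + β)) + J * t := by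
      rw [ht]; ring
    have e2 : J * t = 2 * (l * t) + t := by rw [hl]; ring
    rw [e1] at hsz
    dsimp only
    rw [add_assoc ε, ← ht]
    rcases Nat.eq_zero_or_pos t with h0 | h0
    · have e3 : J * t = 0 := by rw [h0, mul_zero]
      rw [e3] at hsz ⊢
      rw [h0]
      omega
    · have : t ≤ J * t := by rw [e2]; omega
      generalize l * t = w at *
      omega
  · show Pdo J _ _
    have hm2 : 2 * (m / 2) + (ε + (opt i).1 + (opt k).1) % 2 = m := by
      rw [hi, hk, hr] at hsz
      have e1 : J * (r + r + (2 * α + (opt i).1) + (2 * β + (opt k).1)) =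
          2 * (J * (r + α + β) + l * ((opt i).1 + (opt k).1)) + (opt i).1 + (opt k).1 := by
        rw [hl]; ring
      rw [e1] at hsz
      omega
    dsimp only
    rw [hm2]
    exact hm
  · dsimp only
    omega
  · have := eq_updo_reso J D
    rw [hi, hk, hi', hk'] at this
    exact this

theorem step_even {J : ℕ} {ε n : ℕ} (hε : ε < 2) {D : ODat F} (hD : Pdo (J + 1) (2 * n + ε) D)
    (ha : ∀ e, Even (D.a e J)) (hs : ∀ e, D.s e J = false) :
    ∃ d m, J * d + 0 + m = n ∧ Pdo J (2 * m + ε) (reso J D) ∧ ∃ p ∈ Triples F d, D = reco J 0 0 (reso J D) p := by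
  obtain ⟨m, hm, hsz⟩ := hD.reso
  obtain ⟨α, hα⟩ := ha true
  obtain ⟨β, hβ⟩ := ha false
  obtain ⟨r, hr⟩ := hD.even J
  rw [hα, hβ, hr] at hsz
  have e1 : J * (r + r + (α + α) + (β + β)) = 2 * (J * (r + α + β)) := by ring
  rw [e1] at hsz
  generalize hw : J * (r + α + β) = w at hsz
  refine ⟨r + α + β, m / 2, by omega, ?_, (D.f J, α, β), ⟨hD.pal J, hD.one J, hD.neg_one J, ?_⟩, ?_⟩
  · have : 2 * (m / 2) + ε = m := by omega
    rw [this]; exact hm
  · dsimp only
    omega
  · have := eq_updo_reso J D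
    rw [hα, hβ, hs, hs] at this
    unfold reco opt
    dsimp only
    simpa [two_mul] using this

theorem step_even' {J : ℕ} (hJ : Even J) (ε : ℕ) (hε : ε < 2) (n : ℕ) : SO F (J + 1) ε n ⊆
    StepG (Triples F) (SO F J ε) (reco J 0 0) J 0 n := by
  rintro D (hD : Pdo (J + 1) (2 * n + ε) D)
  obtain ⟨d, m, h1, h2, p, hp, h3⟩ := step_even hε hD (fun e => hD.a_even e J hJ) fun e => by
    by_contra h
    have := (hD.s_imp e J (by simpa using h)).1
    rw [← Nat.not_even_iff_odd] at this
    exact this hJ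
  exact ⟨d, m, h1, _, h2, p, hp, h3⟩

/-- the sign free data -/
def SF (F : Type*) [Field F] (J n : ℕ) : Set (ODat F) := {D | Pdo J (2 * n) D ∧ D.Free}

theorem step_free (J n : ℕ) : SF F (J + 1) n ⊆ StepG (Triples F) (SF F J) (reco J 0 0) J 0 n := by
  rintro D ⟨hD, hF⟩
  have ha : ∀ e, Even (D.a e J) := by
    intro e
    rcases Nat.even_or_odd J with hJ | hJ
    · exact hD.a_even e J hJ
    · rw [hF e J hJ]; exact Even.zero
  have hs : ∀ e, D.s e J = false := by
    intro e
    by_contra h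
    have := hD.s_imp e J (by simpa using h)
    rw [hF e J this.1] at this
    exact lt_irrefl 0 this.2
  obtain ⟨d, m, h1, h2, p, hp, h3⟩ := step_even (ε := 0) two_pos hD ha hs
  refine ⟨d, m, h1, _, ⟨h2, ?_⟩, p, hp, h3⟩
  intro e j hj
  by_cases hjJ : j = J
  · subst hjJ; cases e <;> simp [reso, updo]
  · simp [reso, updo, hjJ, hF e j hj]

/-- the trivial data -/
noncomputable def O0 (F : Type*) [Field F] : ODat F where
  f _ := 1
  a _ _ := 0
  s _ _ := false

theorem pdo_one {m : ℕ} {D : ODat F} (h : Pdo 1 m D) : D = O0 F ∧ m = 0 := by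
  have hf : D.f = fun _ => 1 := by
    funext j
    rcases Nat.eq_zero_or_pos j with rfl | hj
    · exact h.zero.1
    · exact (h.big j hj).1
  have ha : D.a = fun _ _ => 0 := by
    funext e j
    rcases Nat.eq_zero_or_pos j with rfl | hj
    · exact h.zero.2 e
    · exact (h.big j hj).2 e
  have hs : D.s = fun _ _ => false := by
    funext e j
    by_contra hh
    have := (h.s_imp e j (by simpa using hh)).2
    rw [ha] at this
    exact absurd this (by simp)
  constructor
  · cases D
    simp only at hf ha hs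
    subst hf ha hs
    rfl
  · rw [← h.size]
    simp

theorem SO_one_zero (m : ℕ) : SO F 1 0 m ⊆ (if m = 0 then {O0 F} else ∅ : Set (ODat F)) := by
  rintro D (hD : Pdo 1 (2 * m + 0) D)
  obtain ⟨h1, h2⟩ := pdo_one hD
  rw [if_pos (by omega), h1]
  rfl

theorem SO_one_one (m : ℕ) : SO F 1 1 m = ∅ := by
  rw [Set.eq_empty_iff_forall_notMem]
  rintro D (hD : Pdo 1 (2 * m + 1) D)
  have := (pdo_one hD).2
  omega

theorem SF_one (m : ℕ) : SF F 1 m ⊆ (if m = 0 then {O0 F} else ∅ : Set (ODat F)) := by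
  rintro D ⟨hD, -⟩
  obtain ⟨h1, h2⟩ := pdo_one hD
  rw [if_pos (by omega), h1]
  rfl

/-- the bounds after level `2 k + 1` for even and odd dimension -/
def ol (u : ℚ) : ℕ → ℚ × ℚ
  | 0 => (1 + 6 * u + u ^ 2, 4 + 4 * u)
  | k + 1 =>
    (((ol u k).1 * (1 + 6 * u ^ (2 * k + 3) + u ^ (4 * k + 6)) + (ol u k).2 * (4 * u ^ (k + 2) + 4 * u ^ (3 * k + 5))) *
      (1 / (1 - u ^ (2 * k + 1))) * (1 / (1 - u ^ (2 * k + 2))),
     ((ol u k).2 * (1 + 6 * u ^ (2 * k + 3) + u ^ (4 * k + 6)) + (ol u k).1 * (4 * u ^ (k + 1) + 4 * u ^ (3 * k + 4))) *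
      (1 / (1 - u ^ (2 * k + 1))) * (1 / (1 - u ^ (2 * k + 2))))

theorem one_div_nonneg' {u : ℚ} (h0 : 0 ≤ u) (h1 : u < 1) (m : ℕ) : 0 ≤ 1 / (1 - u ^ m) := by
  apply div_nonneg zero_le_one
  have := pow_le_one₀ (n := m) h0 h1.le
  linarith

theorem ol_nonneg {u : ℚ} (h0 : 0 ≤ u) (h1 : u < 1) (k : ℕ) : 0 ≤ (ol u k).1 ∧ 0 ≤ (ol u k).2 := by
  induction k with
  | zero => exact ⟨by unfold ol; positivity, by unfold ol; positivity⟩
  | succ k ih =>
    obtain ⟨i1, i2⟩ := ih
    have g1 := one_div_nonneg' h0 h1 (2 * k + 1)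
    have g2 := one_div_nonneg' h0 h1 (2 * k + 2)
    constructor
    · rw [ol]
      exact mul_nonneg (mul_nonneg (by positivity) g1) g2
    · rw [ol]
      exact mul_nonneg (mul_nonneg (by positivity) g1) g2

theorem sum_fin44 (f : ℕ → ℕ → ℚ) : ∑ x : Fin 4 × Fin 4, f (opt x.1).1 (opt x.2).1 =
    f 0 0 + 2 * f 0 1 + f 0 2 + 2 * f 1 0 + 4 * f 1 1 + 2 * f 1 2 + f 2 0 + 2 * f 2 1 + f 2 2 := by
  rw [Fintype.sum_prod_type]
  simp only [Fin.sum_univ_four, opt, Matrix.cons_val_zero, Matrix.cons_val_one, Matrix.cons_val]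
  ring

variable [Finite F]

theorem bound_aux (h2 : (2 : F) ≠ 0) (u : ℚ) (hu : u = 1 / (Nat.card F : ℚ)) (k : ℕ) : ∀ n,
    B1 (Nat.card F) n (SO F (2 * k + 2) 0 n) (ol u k).1 ∧ B1 (Nat.card F) n (SO F (2 * k + 2) 1 n) (ol u k).2 := by
  have hq1 : 1 < Nat.card F := Finite.one_lt_card
  have hq0 : (0 : ℚ) < Nat.card F := by exact_mod_cast (by omega : 0 < Nat.card F)
  have hu0 : 0 < u := by rw [hu]; positivity
  have hu1 : u < 1 := by rw [hu, div_lt_one hq0]; exact_mod_cast hq1
  induction k with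
  | zero =>
    have key : ∀ ε < 2, ∀ n, B1 (Nat.card F) n (SO F 2 ε n) (∑ x : Fin 4 × Fin 4,
        if (ε + (opt x.1).1 + (opt x.2).1) % 2 = 0 then u ^ (cost 1 ε x.1 x.2) else 0) := by
      intro ε hε n
      refine B1.subset ?_ (step_odd (J := 1) odd_one ε hε n)
      apply B1.iUnion
      rintro ⟨i, k⟩
      dsimp only
      split_ifs with h
      · rw [h]
        exact stepG_one hq1 (triples h2) (O0 F) SO_one_zero _ _ n hu
      · have h' : (ε + (opt i).1 + (opt k).1) % 2 = 1 := by omega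
        rw [h']
        refine B1.subset (B1.empty le_rfl) ?_
        rintro D ⟨d, m, -, D', hD', -⟩
        rw [SO_one_one] at hD'
        exact absurd hD' (Set.notMem_empty _)
    intro n
    constructor
    · refine (key 0 two_pos n).mono (le_of_eq ?_)
      unfold cost
      rw [sum_fin44 fun a b => if (0 + a + b) % 2 = 0 then u ^ ((1 * (a + b) + (0 + a + b) % 2 - 0) / 2) else 0]
      norm_num [ol]
      ring
    · refine (key 1 (by norm_num) n).mono (le_of_eq ?_)
      unfold cost
      rw [sum_fin44 fun a b => if (1 + a + b) % 2 = 0 then u ^ ((1 * (a + b) + (1 + a + b) % 2 - 1) / 2) else 0]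
      norm_num [ol]
      ring
  | succ k ih =>
    obtain ⟨n1, n2⟩ := ol_nonneg hu0.le hu1 k
    set E := (ol u k).1 with hE
    set O := (ol u k).2 with hO
    have hg := one_div_nonneg' hu0.le hu1
    -- even level `2 k + 2`
    have hev : ∀ ε < 2, ∀ n, B1 (Nat.card F) n (SO F (2 * k + 3) ε n)
        ((if ε = 0 then E else O) * (1 / (1 - u ^ (2 * k + 1)))) := by
      intro ε hε n
      have hsub := step_even' (F := F) (J := 2 * k + 2) ⟨k + 1, by ring⟩ ε hε n
      obtain rfl | rfl : ε = 0 ∨ ε = 1 := by omega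
      · have := stepG_B1 hq1 (triples h2) n1 (fun m => (ih m).1) (reco (2 * k + 2) 0 0) (2 * k + 2) 0 n (by omega) hu
        refine (this.subset hsub).mono (le_of_eq ?_)
        rw [if_pos rfl, pow_zero, mul_one, show 2 * k + 2 - 1 = 2 * k + 1 by omega]
      · have := stepG_B1 hq1 (triples h2) n2 (fun m => (ih m).2) (reco (2 * k + 2) 0 0) (2 * k + 2) 0 n (by omega) hu
        refine (this.subset hsub).mono (le_of_eq ?_)
        rw [if_neg one_ne_zero, pow_zero, mul_one, show 2 * k + 2 - 1 = 2 * k + 1 by omega]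
    -- odd level `2 k + 3`
    have key : ∀ ε < 2, ∀ n, B1 (Nat.card F) n (SO F (2 * k + 3 + 1) ε n) (∑ x : Fin 4 × Fin 4,
        (if (ε + (opt x.1).1 + (opt x.2).1) % 2 = 0 then E else O) * (1 / (1 - u ^ (2 * k + 1))) *
          u ^ (cost (2 * k + 3) ε x.1 x.2) * (1 / (1 - u ^ (2 * k + 2)))) := by
      intro ε hε n
      refine B1.subset ?_ (step_odd (J := 2 * k + 3) ⟨k + 1, by ring⟩ ε hε n)
      apply B1.iUnion
      rintro ⟨i, l⟩
      dsimp only
      have hlt : (ε + (opt i).1 + (opt l).1) % 2 < 2 := Nat.mod_lt _ two_pos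
      have := stepG_B1 hq1 (triples h2) (C := (if (ε + (opt i).1 + (opt l).1) % 2 = 0 then E else O) *
        (1 / (1 - u ^ (2 * k + 1)))) (mul_nonneg (by split_ifs <;> assumption) (hg _))
        (fun m => hev _ hlt m) (reco (2 * k + 3) i l) (2 * k + 3)
        (cost (2 * k + 3) ε i l) n (by omega) hu
      rwa [show 2 * k + 3 - 1 = 2 * k + 2 by omega] at this
    intro n
    constructor
    · refine (key 0 two_pos n).mono (le_of_eq ?_)
      unfold cost
      rw [sum_fin44 fun a b => (if (0 + a + b) % 2 = 0 then E else O) * (1 / (1 - u ^ (2 * k + 1))) *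
          u ^ (((2 * k + 3) * (a + b) + (0 + a + b) % 2 - 0) / 2) * (1 / (1 - u ^ (2 * k + 2)))]
      have e0 : ((2 * k + 3) * (0 + 0) + (0 + 0 + 0) % 2 - 0) / 2 = 0 := by norm_num
      have e1 : ((2 * k + 3) * 1 + 1) / 2 = k + 2 := by omega
      have e2 : ((2 * k + 3) * 2) / 2 = 2 * k + 3 := by omega
      have e3 : ((2 * k + 3) * 3 + 1) / 2 = 3 * k + 5 := by omega
      have e4 : ((2 * k + 3) * 4) / 2 = 4 * k + 6 := by omega
      norm_num only [Nat.zero_add, Nat.add_zero, Nat.sub_zero, Nat.mul_zero, if_true, if_false]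
      rw [ol, ← hE, ← hO]
      simp only [e1, e2, e3, e4]
      norm_num
      ring
    · refine (key 1 (by norm_num) n).mono (le_of_eq ?_)
      unfold cost
      rw [sum_fin44 fun a b => (if (1 + a + b) % 2 = 0 then E else O) * (1 / (1 - u ^ (2 * k + 1))) *
          u ^ (((2 * k + 3) * (a + b) + (1 + a + b) % 2 - 1) / 2) * (1 / (1 - u ^ (2 * k + 2)))]
      have e1 : ((2 * k + 3) * 1 - 1) / 2 = k + 1 := by omega
      have e2 : ((2 * k + 3) * 2 + 1 - 1) / 2 = 2 * k + 3 := by omega
      have e3 : ((2 * k + 3) * 3 - 1) / 2 = 3 * k + 4 := by omega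
      have e4 : ((2 * k + 3) * 4 + 1 - 1) / 2 = 4 * k + 6 := by omega
      norm_num only [Nat.zero_add, Nat.add_zero, Nat.sub_zero, Nat.mul_zero, if_true, if_false]
      rw [ol, ← hE, ← hO]
      simp only [e1, e2, e3, e4]
      norm_num
      ring

end Cfsg.Agent.H173.NumOdd
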