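import Cfsg.Agent.H173.PresSmall

/-!
# Tight presentations of `S_n`, `A_n`, `n ≤ 6` (helper173)

`presOn_s3 … presOn_s6`, `presOn_a3 … presOn_a6` : `PresOn ![a, s] m` with `a` the 3-cycle `(0 1 2)` and `m ≤ 5`.
`hasPres_two_perm`, `hasPres_two_alt` : `HasPres _ 2 5` for `n ≤ 6`.
-/

set_option autoImplicit false

namespace Cfsg.Agent.H173.Pres

set_option maxRecDepth 20000
set_option linter.unusedSimpArgs false

open Cfsg.Agent.H111 Equiv Cfsg.Agent.CharactersDeep.SchurAltPerm

theorem card_perm_fin (n : ℕ) : Nat.card (Perm (Fin n)) = n.factorial := by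
  rw [Nat.card_eq_fintype_card, Fintype.card_perm, Fintype.card_fin]

theorem card_alt_fin (n : ℕ) (hn : 2 ≤ n) : Nat.card (alternatingGroup (Fin n)) * 2 = n.factorial := by
  have : Nontrivial (Fin n) := Fin.nontrivial_iff_two_le.2 hn
  rw [nat_card_alternatingGroup, Nat.card_eq_fintype_card, Fintype.card_fin]
  exact Nat.div_mul_cancel (Nat.dvd_factorial (by norm_num) hn)

section S

/-- the 3-cycle -/
def a3 : Perm (Fin 3) := swap 0 2 * swap 0 1
/-- the second generator -/
def s3 : Perm (Fin 3) := 1 * swap 0 1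
/-- the 3-cycle -/
def a4 : Perm (Fin 4) := swap 0 2 * swap 0 1
/-- the second generator -/
def s4 : Perm (Fin 4) := swap 2 3 * 1
/-- the 3-cycle -/
def a5 : Perm (Fin 5) := swap 0 2 * swap 0 1
/-- the second generator -/
def s5 : Perm (Fin 5) := (swap 2 3 * swap 3 4) * swap 0 1
/-- the 3-cycle -/
def a6 : Perm (Fin 6) := swap 0 2 * swap 0 1
/-- the second generator -/
def s6 : Perm (Fin 6) := (swap 2 3 * swap 3 4 * swap 4 5) * 1

theorem presOn_s3 : PresOn ![a3, s3] 3 := by
  refine PresOn.of_card ![a3, s3] ?_ relS3 ?_ ?_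
  · rw [range_pair]
    exact closure_perm a3 1 (swap 0 1) 0 1 2 rfl (by decide) (by decide) (by decide) rfl rfl (by decide) (Or.inr rfl)
      (by decide)
  · simp only [relS3, List.mem_cons, List.not_mem_nil, or_false, forall_eq_or_imp, forall_eq, map_mul, map_pow, map_inv,
      FreeGroup.lift_apply_of, A, B]
    decide
  · intro y hy h
    rw [card_perm_fin]
    exact relS3_bound y hy h

theorem presOn_s4 : PresOn ![a4, s4] 3 := by
  refine PresOn.of_card ![a4, s4] ?_ relS4 ?_ ?_
  · rw [range_pair]
    exact closure_perm a4 (swap 2 3) 1 0 1 2 rfl (by decide) (by decide) (by decide) (by decide) (by decide) (by decide)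
      (Or.inl rfl) (by decide)
  · simp only [relS4, List.mem_cons, List.not_mem_nil, or_false, forall_eq_or_imp, forall_eq, map_mul, map_pow, map_inv,
      FreeGroup.lift_apply_of, A, B]
    decide
  · intro y hy h
    rw [card_perm_fin]
    exact relS4_bound y hy h

theorem presOn_s5 : PresOn ![a5, s5] 5 := by
  refine PresOn.of_card ![a5, s5] ?_ relS5 ?_ ?_
  · rw [range_pair]
    exact closure_perm a5 (swap 2 3 * swap 3 4) (swap 0 1) 0 1 2 rfl (by decide) (by decide) (by decide) (by decide)
      (by decide) (by decide) (Or.inr rfl) (by decide)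
  · simp only [relS5, List.mem_cons, List.not_mem_nil, or_false, forall_eq_or_imp, forall_eq, map_mul, map_pow, map_inv,
      FreeGroup.lift_apply_of, A, B]
    decide
  · intro y hy h
    rw [card_perm_fin]
    exact relS5_bound y hy h

theorem presOn_s6 : PresOn ![a6, s6] 5 := by
  refine PresOn.of_card ![a6, s6] ?_ relS6 ?_ ?_
  · rw [range_pair]
    exact closure_perm a6 (swap 2 3 * swap 3 4 * swap 4 5) 1 0 1 2 rfl (by decide) (by decide) (by decide) (by decide)
      (by decide) (by decide) (Or.inl rfl) (by decide)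
  · simp only [relS6, List.mem_cons, List.not_mem_nil, or_false, forall_eq_or_imp, forall_eq, map_mul, map_pow, map_inv,
      FreeGroup.lift_apply_of, A, B]
    decide
  · intro y hy h
    rw [card_perm_fin]
    exact relS6_bound y hy h

end S

section Alt

/-- the 3-cycle -/
def za3 : alternatingGroup (Fin 3) := ⟨swap 0 2 * swap 0 1, Perm.mem_alternatingGroup.2 (by decide)⟩
/-- the 3-cycle -/
def za4 : alternatingGroup (Fin 4) := ⟨swap 0 2 * swap 0 1, Perm.mem_alternatingGroup.2 (by decide)⟩
/-- the second generator -/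
def zs4 : alternatingGroup (Fin 4) := ⟨swap 2 3 * swap 0 1, Perm.mem_alternatingGroup.2 (by decide)⟩
/-- the 3-cycle -/
def za5 : alternatingGroup (Fin 5) := ⟨swap 0 2 * swap 0 1, Perm.mem_alternatingGroup.2 (by decide)⟩
/-- the second generator -/
def zs5 : alternatingGroup (Fin 5) := ⟨(swap 2 3 * swap 3 4) * 1, Perm.mem_alternatingGroup.2 (by decide)⟩
/-- the 3-cycle -/
def za6 : alternatingGroup (Fin 6) := ⟨swap 0 2 * swap 0 1, Perm.mem_alternatingGroup.2 (by decide)⟩
/-- the second generator -/
def zs6 : alternatingGroup (Fin 6) := ⟨(swap 2 3 * swap 3 4 * swap 4 5) * swap 0 1, Perm.mem_alternatingGroup.2 (by decide)⟩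

theorem presOn_a3 : PresOn ![za3, 1] 2 := by
  refine PresOn.of_card ![za3, 1] ?_ relA3 ?_ ?_
  · rw [range_pair]
    exact closure_alt za3 1 1 1 0 1 2 (by simp) rfl (by decide) (by decide) (by decide) rfl rfl (by decide) (Or.inl rfl)
  · simp only [relA3, List.mem_cons, List.not_mem_nil, or_false, forall_eq_or_imp, forall_eq, map_mul, map_pow, map_inv,
      FreeGroup.lift_apply_of, A, B]
    decide
  · intro y hy h
    have h2 : Nat.card (alternatingGroup (Fin 3)) = 3 := by
      have := card_alt_fin 3 (by norm_num)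
      have h6 : Nat.factorial 3 = 6 := rfl
      omega
    rw [h2]
    exact relA3_bound y hy h

theorem presOn_a4 : PresOn ![za4, zs4] 4 := by
  refine PresOn.of_card ![za4, zs4] ?_ relA4 ?_ ?_
  · rw [range_pair]
    exact closure_alt za4 zs4 (swap 2 3) (swap 0 1) 0 1 2 rfl rfl (by decide) (by decide) (by decide) (by decide)
      (by decide) (by decide) (Or.inr rfl)
  · simp only [relA4, List.mem_cons, List.not_mem_nil, or_false, forall_eq_or_imp, forall_eq, map_mul, map_pow, map_inv,
      FreeGroup.lift_apply_of, A, B]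
    decide
  · intro y hy h
    have h2 : Nat.card (alternatingGroup (Fin 4)) = 12 := by
      have := card_alt_fin 4 (by norm_num)
      have h6 : Nat.factorial 4 = 24 := rfl
      omega
    rw [h2]
    exact relA4_bound y hy h

theorem presOn_a5 : PresOn ![za5, zs5] 4 := by
  refine PresOn.of_card ![za5, zs5] ?_ relA5 ?_ ?_
  · rw [range_pair]
    exact closure_alt za5 zs5 (swap 2 3 * swap 3 4) 1 0 1 2 rfl rfl (by decide) (by decide) (by decide) (by decide)
      (by decide) (by decide) (Or.inl rfl)
  · simp only [relA5, List.mem_cons, List.not_mem_nil, or_false, forall_eq_or_imp, forall_eq, map_mul, map_pow, map_inv,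
      FreeGroup.lift_apply_of, A, B]
    decide
  · intro y hy h
    have h2 : Nat.card (alternatingGroup (Fin 5)) = 60 := by
      have := card_alt_fin 5 (by norm_num)
      have h6 : Nat.factorial 5 = 120 := rfl
      omega
    rw [h2]
    exact relA5_bound y hy h

theorem presOn_a6 : PresOn ![za6, zs6] 5 := by
  refine PresOn.of_card ![za6, zs6] ?_ relA6 ?_ ?_
  · rw [range_pair]
    exact closure_alt za6 zs6 (swap 2 3 * swap 3 4 * swap 4 5) (swap 0 1) 0 1 2 rfl rfl (by decide) (by decide)
      (by decide) (by decide) (by decide) (by decide) (Or.inr rfl)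
  · simp only [relA6, List.mem_cons, List.not_mem_nil, or_false, forall_eq_or_imp, forall_eq, map_mul, map_pow, map_inv,
      FreeGroup.lift_apply_of, A, B]
    decide
  · intro y hy h
    have h2 : Nat.card (alternatingGroup (Fin 6)) = 360 := by
      have := card_alt_fin 6 (by norm_num)
      have h6 : Nat.factorial 6 = 720 := rfl
      omega
    rw [h2]
    exact relA6_bound y hy h

end Alt

/-- the trivial group -/
theorem hasPres_two_of_subsingleton {G : Type*} [Group G] [Subsingleton G] : HasPres G 2 5 := by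
  have h : PresOn ![(1 : G), 1] 2 := by
    have hlen : [A, B].length = 2 := rfl
    rw [← hlen]
    refine PresOn.of_list _ ?_ [A, B] (fun r _ => Subsingleton.elim _ _) ?_
    · rw [eq_top_iff]
      intro x _
      rw [Subsingleton.elim x 1]
      exact one_mem _
    · intro φ hφ x _
      have e : φ = 1 := by
        ext j
        fin_cases j
        · exact hφ _ (by simp)
        · exact hφ _ (by simp)
      rw [e]; rfl
  exact h.hasPres.mono (by norm_num)

theorem presOn_s2 : PresOn ![(swap 0 1 : Perm (Fin 2)), 1] 2 := by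
  refine PresOn.of_card _ ?_ [A ^ 2, B] ?_ ?_
  · rw [range_pair, eq_top_iff]
    rintro x -
    have hx : ∀ x : Perm (Fin 2), x = 1 ∨ x = swap 0 1 := by decide
    rcases hx x with rfl | rfl
    · exact one_mem _
    · exact Subgroup.subset_closure (by simp)
  · simp only [List.mem_cons, List.not_mem_nil, or_false, forall_eq_or_imp, forall_eq, map_pow,
      FreeGroup.lift_apply_of, A, B]
    decide
  · intro y hy h
    rw [card_perm_fin]
    exact relS2_bound y hy h

/-- **(b), (c)**: `S_n`, `n ≤ 6`, has a presentation with two generators and five relators -/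
theorem hasPres_two_perm (n : ℕ) (hn : n ≤ 6) : HasPres (Perm (Fin n)) 2 5 := by
  obtain rfl | rfl | rfl | rfl | rfl | rfl | rfl : n = 0 ∨ n = 1 ∨ n = 2 ∨ n = 3 ∨ n = 4 ∨ n = 5 ∨ n = 6 := by omega
  · exact hasPres_two_of_subsingleton
  · exact hasPres_two_of_subsingleton
  · exact presOn_s2.hasPres.mono (by norm_num)
  · exact presOn_s3.hasPres.mono (by norm_num)
  · exact presOn_s4.hasPres.mono (by norm_num)
  · exact presOn_s5.hasPres
  · exact presOn_s6.hasPres

/-- **(b), (c)**: `A_n`, `n ≤ 6`, has a presentation with two generators and five relators -/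
theorem hasPres_two_alt (n : ℕ) (hn : n ≤ 6) : HasPres (alternatingGroup (Fin n)) 2 5 := by
  obtain rfl | rfl | rfl | rfl | rfl | rfl | rfl : n = 0 ∨ n = 1 ∨ n = 2 ∨ n = 3 ∨ n = 4 ∨ n = 5 ∨ n = 6 := by omega
  · exact hasPres_two_of_subsingleton
  · exact hasPres_two_of_subsingleton
  · have : Subsingleton (alternatingGroup (Fin 2)) := ⟨by decide⟩
    exact hasPres_two_of_subsingleton
  · exact presOn_a3.hasPres.mono (by norm_num)
  · exact presOn_a4.hasPres.mono (by norm_num)
  · exact presOn_a5.hasPres.mono (by norm_num)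
  · exact presOn_a6.hasPres

theorem hasPres_three_perm (n : ℕ) (hn : n ≤ 6) : HasPres (Perm (Fin n)) 3 7 :=
  (hasPres_two_perm n hn).succ.mono (by norm_num)

theorem hasPres_three_alt (n : ℕ) (hn : n ≤ 6) : HasPres (alternatingGroup (Fin n)) 3 7 :=
  (hasPres_two_alt n hn).succ.mono (by norm_num)

end Cfsg.Agent.H173.Pres
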