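import Cfsg.Agent.CharactersDeep.SchurAltPerm

/-!
# Two generators of `Alt α` and `Sym α`, the first one a given 3-cycle (helper173)

* `exists_alt` : for a 3-cycle `t` there is `g` with `⟨t, g⟩ = Alt α`;
* `exists_perm` : and `g'` with `⟨t, g'⟩ = Sym α`.
-/

set_option autoImplicit false

namespace Cfsg.Agent.H173.TwoGen

open Equiv Equiv.Perm Subgroup Cfsg.Agent.CharactersDeep.SchurAltPerm

variable {α : Type*} [DecidableEq α]

theorem x_swap {o l c : α} (h1 : c ≠ o) (h2 : c ≠ l) : x l o c = (x o l c)⁻¹ := by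
  rw [x_inv, x_def]
  have h := conj_swap (swap o l) o c
  rw [swap_apply_left, swap_apply_of_ne_of_ne h1 h2] at h
  rw [← h, Equiv.swap_comm l o]
  group

/-- every 3-cycle is `(o l c)` -/
theorem exists_x [Fintype α] {t : Perm α} (ht : t.IsThreeCycle) :
    ∃ o l c, o ≠ l ∧ o ≠ c ∧ l ≠ c ∧ t = x o l c := by
  obtain ⟨a, ha⟩ : t.support.Nonempty := by
    rw [← Finset.card_pos, ht.card_support]; norm_num
  have h1 := ht.eq_swap_mul_swap_iff_mem_support.2 ha
  have h2 := ht.nodup_iff_mem_support.2 ha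
  simp only [List.nodup_cons, List.mem_cons, List.not_mem_nil, or_false, not_or, List.nodup_nil, and_true,
    not_false_eq_true] at h2
  refine ⟨a, t a, t (t a), h2.1.1, h2.1.2, h2.2, ?_⟩
  rw [x_def]
  conv_lhs => rw [h1]
  have h := conj_swap (swap a (t a)) (t a) (t (t a))
  rw [swap_apply_right, swap_apply_of_ne_of_ne (Ne.symm h2.1.2) (Ne.symm h2.2)] at h
  rw [← h]
  group

/-- a permutation fixing `o`, `l` and transitive on the rest -/
theorem exists_trans [Fintype α] (o l : α) :
    ∃ γ : Perm α, γ o = o ∧ γ l = l ∧ ∀ c d, c ≠ o → c ≠ l → d ≠ o → d ≠ l → ∃ i : ℤ, (γ ^ i) c = d := by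
  obtain ⟨f, hf, hs⟩ := Finset.exists_cycleOn (Finset.univ \ {o, l} : Finset α)
  refine ⟨f, ?_, ?_, ?_⟩
  · by_contra h
    have := hs (mem_support.2 h)
    simp at this
  · by_contra h
    have := hs (mem_support.2 h)
    simp at this
  · intro c d h1 h2 h3 h4
    exact hf.2 (by simp [h1, h2]) (by simp [h3, h4])

/-- the group generated by the 3-cycle `(o l c)` and `γ` or `γ (o l)` contains the alternating group -/
theorem alt_le [Fintype α] {o l c : α} (hol : o ≠ l) (hoc : o ≠ c) (hlc : l ≠ c) (γ e : Perm α)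
    (h1 : γ o = o) (h2 : γ l = l) (h3 : ∀ c d, c ≠ o → c ≠ l → d ≠ o → d ≠ l → ∃ i : ℤ, (γ ^ i) c = d)
    (he : e = 1 ∨ e = swap o l) : alternatingGroup α ≤ closure {x o l c, γ * e} := by
  apply alternating_le_closure_x hol
  intro d hd1 hd2
  obtain ⟨i, hi⟩ := h3 c d hoc.symm hlc.symm hd1 hd2
  have hcomm : Commute γ e := by
    rcases he with rfl | rfl
    · exact Commute.one_right _
    · change γ * swap o l = swap o l * γ
      have := conj_swap γ o l
      rw [h1, h2] at this
      calc γ * swap o l = (γ * swap o l * γ⁻¹) * γ := by group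
        _ = swap o l * γ := by rw [this]
  have hec : e c = c := by
    rcases he with rfl | rfl
    · rfl
    · exact swap_apply_of_ne_of_ne hoc.symm hlc.symm
  have hpow : (γ * e) ^ i = γ ^ i * e ^ i := hcomm.mul_zpow i
  have hg1 : (γ ^ i) o = o := Equiv.Perm.zpow_apply_eq_self_of_apply_eq_self h1 i
  have hg2 : (γ ^ i) l = l := Equiv.Perm.zpow_apply_eq_self_of_apply_eq_self h2 i
  have hcd : ((γ * e) ^ i) c = d := by
    rw [hpow, Perm.mul_apply, Equiv.Perm.zpow_apply_eq_self_of_apply_eq_self hec, hi]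
  have hei : e ^ i = 1 ∨ e ^ i = swap o l := by
    rcases he with rfl | rfl
    · left; exact one_zpow i
    · rcases Int.even_or_odd i with hi | hi
      · left
        obtain ⟨k, rfl⟩ := hi
        rw [zpow_add, ← (Commute.refl (swap o l)).mul_zpow, swap_mul_self, one_zpow]
      · right
        obtain ⟨k, rfl⟩ := hi
        rw [zpow_add, zpow_mul, zpow_one]
        simp [pow_two, swap_mul_self]
  have hmem : ((γ * e) ^ i) * x o l c * ((γ * e) ^ i)⁻¹ ∈ closure {x o l c, γ * e} := by
    have hz : (γ * e) ^ i ∈ closure {x o l c, γ * e} := zpow_mem (subset_closure (by simp)) i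
    exact mul_mem (mul_mem hz (subset_closure (by simp))) (inv_mem hz)
  rw [conj_x, hcd] at hmem
  rcases hei with h | h
  · have ho : ((γ * e) ^ i) o = o := by rw [hpow, h, mul_one, hg1]
    have hl : ((γ * e) ^ i) l = l := by rw [hpow, h, mul_one, hg2]
    rwa [ho, hl] at hmem
  · have ho : ((γ * e) ^ i) o = l := by rw [hpow, h, Perm.mul_apply, swap_apply_left, hg2]
    have hl : ((γ * e) ^ i) l = o := by rw [hpow, h, Perm.mul_apply, swap_apply_right, hg1]
    rw [ho, hl, x_swap hd1 hd2] at hmem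
    have := inv_mem hmem
    rwa [inv_inv] at this

theorem exists_alt_le [Fintype α] {t : Perm α} (ht : t.IsThreeCycle) (s : ℤˣ) :
    ∃ g : Perm α, Perm.sign g = s ∧ alternatingGroup α ≤ closure {t, g} := by
  obtain ⟨o, l, c, hol, hoc, hlc, rfl⟩ := exists_x ht
  obtain ⟨γ, h1, h2, h3⟩ := exists_trans o l
  by_cases h : Perm.sign γ = s
  · exact ⟨γ * 1, by rw [mul_one, h], alt_le hol hoc hlc γ 1 h1 h2 h3 (Or.inl rfl)⟩
  · refine ⟨γ * swap o l, ?_, alt_le hol hoc hlc γ _ h1 h2 h3 (Or.inr rfl)⟩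
    rw [map_mul, Perm.sign_swap hol]
    rcases Int.units_eq_one_or (Perm.sign γ) with h4 | h4 <;> rcases Int.units_eq_one_or s with h5 | h5 <;>
      simp_all

/-- **(a), alternating**: a given 3-cycle is a member of a generating pair of `Alt α`. -/
theorem exists_alt [Fintype α] (t : alternatingGroup α) (ht : (t : Perm α).IsThreeCycle) :
    ∃ g : alternatingGroup α, closure {t, g} = ⊤ := by
  obtain ⟨g, hg, h⟩ := exists_alt_le ht 1
  refine ⟨⟨g, hg⟩, ?_⟩
  rw [eq_top_iff]
  intro y _
  have h1 := h y.2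
  have e : closure ({(t : Perm α), g} : Set (Perm α)) =
      (closure ({t, ⟨g, hg⟩} : Set (alternatingGroup α))).map (alternatingGroup α).subtype := by
    rw [MonoidHom.map_closure, Set.image_pair]
    rfl
  rw [e] at h1
  obtain ⟨z, hz, hzy⟩ := h1
  rwa [← Subtype.ext hzy]

/-- **(a), symmetric**: a given 3-cycle is a member of a generating pair of `Sym α`. -/
theorem exists_perm [Fintype α] (t : Perm α) (ht : t.IsThreeCycle) :
    ∃ g : Perm α, closure {t, g} = ⊤ := by
  obtain ⟨g, hg, h⟩ := exists_alt_le ht (-1)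
  refine ⟨g, ?_⟩
  rw [eq_top_iff]
  intro y _
  rcases Int.units_eq_one_or (Perm.sign y) with h4 | h4
  · exact h h4
  · have h5 : y * g⁻¹ ∈ closure {t, g} := by
      apply h
      rw [mem_alternatingGroup, map_mul, Perm.sign_inv, h4, hg]
      rfl
    have h6 := mul_mem h5 (subset_closure (show g ∈ ({t, g} : Set (Perm α)) by simp))
    simpa using h6

/-- there are 3-cycles if there are at least three points -/
theorem exists_isThreeCycle [Fintype α] (h : 3 ≤ Fintype.card α) : ∃ t : Perm α, t.IsThreeCycle := by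
  obtain ⟨a, b, c, hab, hac, hbc⟩ := Fintype.two_lt_card_iff.1 (show 2 < Fintype.card α by omega)
  exact ⟨x a b c, x_isThreeCycle hab hac hbc⟩

end Cfsg.Agent.H173.TwoGen
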