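import Cfsg.Agent.H173.PresChange
import Cfsg.Agent.H173.TwoGen
import Cfsg.Agent.SmallSimple.Carmichael

/-!
# Tight presentations of the small symmetric and alternating groups (helper173)

`card_le_of_carmichael` : Carmichael's two generator presentations, abstractly: `a ^ 3 = 1`,
`x k = s⁻ᵏ a^(eᵏ) sᵏ`, `x N = x 0`, `(x 0 * x k)² = 1` for `1 ≤ k ≤ N / 2`, `s ^ j` in the group generated by the `x k`:
then `|⟨a, s⟩| ≤ j (N + 2)! / 2`.
-/

set_option autoImplicit false

namespace Cfsg.Agent.H173.Pres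

open Cfsg.Agent.H111

section Bound

variable {Γ : Type*} [Group Γ]

/-- the elements `x k` -/
def xs (a s : Γ) (e : ℤ) (k : ℕ) : Γ := (s ^ k)⁻¹ * a ^ (e ^ k) * s ^ k

theorem xs_zero (a s : Γ) (e : ℤ) : xs a s e 0 = a := by simp [xs]

theorem xs_succ (a s : Γ) (e : ℤ) (k : ℕ) : xs a s e (k + 1) = (s⁻¹ * xs a s e k * s) ^ e := by
  have h : s⁻¹ * xs a s e k * s = (s ^ (k + 1))⁻¹ * a ^ (e ^ k) * s ^ (k + 1) := by
    rw [xs, pow_succ]; group
  have h1 : ∀ (g y : Γ) (m : ℤ), (g⁻¹ * y * g) ^ m = g⁻¹ * y ^ m * g := by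
    intro g y m
    have := conj_zpow (i := m) (a := g⁻¹) (b := y)
    simpa using this
  rw [h, h1, ← zpow_mul, ← pow_succ, xs]

theorem sq_comm_one {u v : Γ} (h : (u * v) ^ 2 = 1) : (v * u) ^ 2 = 1 := by
  have : (v * u) ^ 2 = u⁻¹ * (u * v) ^ 2 * u := by rw [pow_two, pow_two]; group
  rw [this, h]; group

theorem card_le_of_carmichael (a s : Γ) (e : ℤ) (he : e = 1 ∨ e = -1) (N : ℕ) (hN : 1 ≤ N) (h3 : a ^ 3 = 1)
    (hper : xs a s e N = a) (h2 : ∀ k, 1 ≤ k → 2 * k ≤ N → (a * xs a s e k) ^ 2 = 1) (j : ℕ) (hj : 0 < j)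
    (hs : ∀ M : Subgroup Γ, M.Normal → a ∈ M → s ^ j ∈ M) (hgen : Subgroup.closure {a, s} = ⊤) :
    Finite Γ ∧ Nat.card Γ * 2 ≤ j * (N + 2).factorial := by
  classical
  set x := xs a s e with hx
  have hx0 : x 0 = a := xs_zero a s e
  have hxs : ∀ k, x (k + 1) = (s⁻¹ * x k * s) ^ e := xs_succ a s e
  have hper' : ∀ k, x (k + N) = x k := by
    intro k
    induction k with
    | zero => rw [zero_add, hx0]; exact hper
    | succ k ih => rw [show k + 1 + N = (k + N) + 1 by omega, hxs, ih, ← hxs]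
  have hmul : ∀ k i, x (k + i * N) = x k := by
    intro k i
    induction i with
    | zero => simp
    | succ i ih => rw [show k + (i + 1) * N = (k + i * N) + N by ring, hper', ih]
  have hmod : ∀ k, x k = x (k % N) := by
    intro k
    conv_lhs => rw [← Nat.mod_add_div k N, mul_comm]
    exact hmul _ _
  have h3' : ∀ k, x k ^ 3 = 1 := by
    intro k
    rw [hx, xs]
    have h1 : ∀ (g y : Γ) (m : ℕ), (g⁻¹ * y * g) ^ m = g⁻¹ * y ^ m * g := by
      intro g y m
      have := conj_pow (i := m) (a := g⁻¹) (b := y)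
      simpa using this
    have h5 : (a ^ (e ^ k)) ^ 3 = (a ^ 3) ^ (e ^ k) := by
      rw [← zpow_natCast, ← zpow_natCast, ← zpow_mul, ← zpow_mul, mul_comm]
    rw [h1, h5, h3, one_zpow, mul_one, inv_mul_cancel]
  have hshift : ∀ i j, (x i * x j) ^ 2 = 1 → (x (i + 1) * x (j + 1)) ^ 2 = 1 := by
    intro i j hij
    rw [hxs, hxs]
    rcases he with rfl | rfl
    · rw [zpow_one, zpow_one]
      have : (s⁻¹ * x i * s * (s⁻¹ * x j * s)) ^ 2 = s⁻¹ * (x i * x j) ^ 2 * s := by
        rw [pow_two, pow_two]; group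
      rw [this, hij]; group
    · have h5 := sq_comm_one hij
      have : ((s⁻¹ * x i * s) ^ (-1 : ℤ) * (s⁻¹ * x j * s) ^ (-1 : ℤ)) ^ 2 = s⁻¹ * ((x j * x i) ^ 2)⁻¹ * s := by
        rw [pow_two, pow_two]; group
      rw [this, h5]; group
  have hk : ∀ i k, 1 ≤ k → 2 * k ≤ N → (x i * x (i + k)) ^ 2 = 1 := by
    intro i k h1 hk
    induction i with
    | zero => rw [zero_add, hx0]; exact h2 k h1 hk
    | succ i ih => rw [show i + 1 + k = (i + k) + 1 by omega]; exact hshift _ _ ih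
  have hk' : ∀ i k, 1 ≤ k → k < N → (x i * x (i + k)) ^ 2 = 1 := by
    intro i k h1 h4
    by_cases h5 : 2 * k ≤ N
    · exact hk i k h1 h5
    · have h6 := hk (i + k) (N - k) (by omega) (by omega)
      rw [show i + k + (N - k) = i + N by omega, hper'] at h6
      exact sq_comm_one h6
  let y : Fin N → Γ := fun i => x i
  have hy2 : ∀ i j : Fin N, i ≠ j → (y i * y j) ^ 2 = 1 := by
    intro i j hij
    rcases lt_or_gt_of_ne (fun h => hij (Fin.ext h) : (i : ℕ) ≠ j) with h | h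
    · have := hk' i (j - i) (by omega) (by omega)
      rwa [show (i : ℕ) + (j - i) = j by omega] at this
    · have := hk' j (i - j) (by omega) (by omega)
      rw [show (j : ℕ) + (i - j) = i by omega] at this
      exact sq_comm_one this
  obtain ⟨hc, hfin⟩ := Cfsg.Agent.SmallSimple.Carmichael.card_le y (fun i => h3' i) hy2 Finset.univ
  rw [Finset.coe_univ, Set.image_univ, Finset.card_univ, Fintype.card_fin] at hc
  rw [Finset.coe_univ, Set.image_univ] at hfin
  have hrange : Set.range y = Set.range x := by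
    apply Set.Subset.antisymm
    · rintro _ ⟨i, rfl⟩; exact ⟨i, rfl⟩
    · rintro _ ⟨k, rfl⟩
      exact ⟨⟨k % N, Nat.mod_lt _ (by omega)⟩, (hmod k).symm⟩
  rw [hrange] at hc hfin
  set M := Subgroup.closure (Set.range x) with hM
  have hxM : ∀ k, x k ∈ M := fun k => Subgroup.subset_closure ⟨k, rfl⟩
  have hee : ∀ g : Γ, (g ^ e) ^ e = g := by
    intro g
    rcases he with rfl | rfl <;> simp
  have hconj1 : ∀ k, s⁻¹ * x k * s ∈ M := by
    intro k
    rw [← hee (s⁻¹ * x k * s), ← hxs]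
    exact zpow_mem (hxM _) _
  have hconj2 : ∀ k, s * x k * s⁻¹ ∈ M := by
    intro k
    have h5 : x k = (s⁻¹ * x (k + N - 1) * s) ^ e := by
      rw [← hxs, show k + N - 1 + 1 = k + N by omega, hper']
    have h6 : s * x k * s⁻¹ = (x (k + N - 1)) ^ e := by
      rw [h5]
      rcases he with rfl | rfl
      · rw [zpow_one, zpow_one]; group
      · group
    rw [h6]
    exact zpow_mem (hxM _) _
  have hnorm : M.Normal := by
    have hle : (⊤ : Subgroup Γ) ≤ Subgroup.normalizer (M : Set Γ) := by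
      rw [← hgen, Subgroup.closure_le]
      rintro g (hg | hg)
      · rw [hg]; exact Subgroup.le_normalizer (by rw [← hx0]; exact hxM 0)
      · rw [Set.mem_singleton_iff] at hg
        rw [hg, SetLike.mem_coe, Subgroup.mem_normalizer_iff]
        intro h
        constructor
        · intro hh
          have : M ≤ M.comap (MulAut.conj s).toMonoidHom := by
            rw [hM, Subgroup.closure_le]
            rintro _ ⟨k, rfl⟩
            exact hconj2 k
          exact this hh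
        · intro hh
          have : M ≤ M.comap (MulAut.conj s⁻¹).toMonoidHom := by
            rw [hM, Subgroup.closure_le]
            rintro _ ⟨k, rfl⟩
            have := hconj1 k
            simpa using this
          have h7 := this hh
          have h8 : s⁻¹ * (s * h * s⁻¹) * s ∈ M := by simpa using h7
          have h9 : s⁻¹ * (s * h * s⁻¹) * s = h := by group
          rwa [h9] at h8
    exact Subgroup.normalizer_eq_top_iff.1 (top_le_iff.1 hle)
  have hq : Subgroup.zpowers ((s : Γ) : Γ ⧸ M) = ⊤ := by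
    have h5 : (Subgroup.closure {a, s}).map (QuotientGroup.mk' M) ≤ Subgroup.zpowers ((s : Γ) : Γ ⧸ M) := by
      rw [MonoidHom.map_closure, Subgroup.closure_le]
      rintro _ ⟨g, (hg | hg), rfl⟩
      · have : (QuotientGroup.mk' M) g = 1 := (QuotientGroup.eq_one_iff g).2 (by rw [hg, ← hx0]; exact hxM 0)
        rw [this]; exact one_mem _
      · rw [Set.mem_singleton_iff] at hg
        rw [hg]
        exact Subgroup.mem_zpowers _
    rw [hgen, ← MonoidHom.range_eq_map, MonoidHom.range_eq_top.2 (QuotientGroup.mk'_surjective M)] at h5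
    exact top_le_iff.1 h5
  have hone : ((s : Γ) : Γ ⧸ M) ^ j = 1 := by
    rw [← QuotientGroup.mk_pow]
    exact (QuotientGroup.eq_one_iff _).2 (hs M hnorm (by rw [← hx0]; exact hxM 0))
  have hfo : IsOfFinOrder ((s : Γ) : Γ ⧸ M) := isOfFinOrder_iff_pow_eq_one.2 ⟨j, hj, hone⟩
  have hcardq : Nat.card (Γ ⧸ M) = orderOf ((s : Γ) : Γ ⧸ M) := by
    rw [← Nat.card_zpowers, hq, Subgroup.card_top]
  have hle : Nat.card (Γ ⧸ M) ≤ j := by
    rw [hcardq]; exact orderOf_le_of_pow_eq_one hj hone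
  have hpos : 0 < Nat.card (Γ ⧸ M) := by rw [hcardq]; exact hfo.orderOf_pos
  have hfinq : Finite (Γ ⧸ M) := (Nat.card_pos_iff.1 hpos).2
  have hfinΓ : Finite Γ := by
    have : Finite (Γ ⧸ M) := hfinq
    have : Finite M := hfin
    exact Finite.of_equiv _ (Subgroup.groupEquivQuotientProdSubgroup (s := M)).symm
  refine ⟨hfinΓ, ?_⟩
  rw [Subgroup.card_eq_card_quotient_mul_card_subgroup M, mul_assoc]
  exact Nat.mul_le_mul hle hc

/-- `(s * a) ^ m ∈ s ^ m M` -/
theorem mul_pow_mem {M : Subgroup Γ} [M.Normal] {a s : Γ} (ha : a ∈ M) (m : ℕ) (h : (s * a) ^ m = 1) :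
    s ^ m ∈ M := by
  have h1 : ((s * a : Γ) : Γ ⧸ M) ^ m = 1 := by
    rw [← QuotientGroup.mk_pow, h]; rfl
  have h2 : ((s * a : Γ) : Γ ⧸ M) = ((s : Γ) : Γ ⧸ M) := by
    rw [QuotientGroup.mk_mul, (QuotientGroup.eq_one_iff a).2 ha, mul_one]
  rw [h2, ← QuotientGroup.mk_pow] at h1
  exact (QuotientGroup.eq_one_iff _).1 h1

end Bound

/-- the criterion by orders -/
theorem PresOn.of_card {ι G : Type*} [Group G] [Finite G] (g : ι → G) (hg : Subgroup.closure (Set.range g) = ⊤)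
    (L : List (FreeGroup ι)) (hL : ∀ r ∈ L, FreeGroup.lift g r = 1)
    (h : ∀ y : ι → FreeGroup ι ⧸ Subgroup.normalClosure {r | r ∈ L}, Subgroup.closure (Set.range y) = ⊤ →
      (∀ r ∈ L, FreeGroup.lift y r = 1) → Finite (FreeGroup ι ⧸ Subgroup.normalClosure {r | r ∈ L}) ∧
        Nat.card (FreeGroup ι ⧸ Subgroup.normalClosure {r | r ∈ L}) ≤ Nat.card G) : PresOn g L.length := by
  classical
  have hsurj := surj_of_closure g hg
  refine ⟨hsurj, L.toFinset, List.toFinset_card_le L, ?_⟩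
  have hset : (↑L.toFinset : Set (FreeGroup ι)) = {r | r ∈ L} := by ext; simp
  rw [hset]
  have hle : Subgroup.normalClosure {r | r ∈ L} ≤ (FreeGroup.lift g).ker :=
    Subgroup.normalClosure_le_normal fun r hr => hL r hr
  refine le_antisymm ?_ hle
  let y : ι → FreeGroup ι ⧸ Subgroup.normalClosure {r | r ∈ L} := fun i => QuotientGroup.mk' _ (FreeGroup.of i)
  have hy : FreeGroup.lift y = QuotientGroup.mk' (Subgroup.normalClosure {r | r ∈ L}) := by
    ext i; simp [y]
  obtain ⟨h1, h2⟩ := h y (by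
      rw [← FreeGroup.range_lift_eq_closure, hy, MonoidHom.range_eq_top]
      exact QuotientGroup.mk'_surjective _)
    (fun r hr => by
      rw [hy]
      exact (QuotientGroup.eq_one_iff r).2 (Subgroup.subset_normalClosure hr))
  let θ := QuotientGroup.lift (Subgroup.normalClosure {r | r ∈ L}) (FreeGroup.lift g) hle
  have hθ : Function.Surjective θ := by
    intro z
    obtain ⟨w, hw⟩ := hsurj z
    exact ⟨QuotientGroup.mk' _ w, hw⟩
  have hinj : Function.Injective θ := by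
    have hbij : Function.Bijective θ :=
      (Nat.bijective_iff_surjective_and_card θ).2 ⟨hθ, le_antisymm h2 (Nat.card_le_card_of_surjective θ hθ)⟩
    exact hbij.1
  intro w hw
  have : (QuotientGroup.mk' (Subgroup.normalClosure {r | r ∈ L})) w = 1 := by
    apply hinj
    rw [map_one]
    exact hw
  exact (QuotientGroup.eq_one_iff w).1 this

theorem range_pair {α : Type*} (a b : α) : Set.range ![a, b] = {a, b} := by
  rw [Matrix.range_cons, Matrix.range_cons, Matrix.range_empty, Set.union_empty]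
  rfl

theorem range_fin_two {α : Type*} (y : Fin 2 → α) : Set.range y = {y 0, y 1} := by
  ext z
  constructor
  · rintro ⟨i, rfl⟩
    fin_cases i <;> simp
  · rintro (rfl | rfl) <;> exact ⟨_, rfl⟩

open Equiv Cfsg.Agent.CharactersDeep.SchurAltPerm in
/-- generation -/
theorem closure_perm {n : ℕ} (a γ e : Perm (Fin n)) (o l c : Fin n) (ha : a = x o l c) (hol : o ≠ l) (hoc : o ≠ c)
    (hlc : l ≠ c) (h1 : γ o = o) (h2 : γ l = l)
    (h3 : ∀ c d, c ≠ o → c ≠ l → d ≠ o → d ≠ l → ∃ i : Fin n, (γ ^ (i : ℕ)) c = d)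
    (he : e = 1 ∨ e = swap o l) (hs : Perm.sign (γ * e) = -1) :
    Subgroup.closure {a, γ * e} = (⊤ : Subgroup (Perm (Fin n))) := by
  have h := TwoGen.alt_le hol hoc hlc γ e h1 h2 (fun c d x1 x2 x3 x4 => by
    obtain ⟨i, hi⟩ := h3 c d x1 x2 x3 x4
    exact ⟨((i : ℕ) : ℤ), by rw [zpow_natCast]; exact hi⟩) he
  rw [← ha] at h
  rw [eq_top_iff]
  intro y _
  rcases Int.units_eq_one_or (Perm.sign y) with h4 | h4
  · exact h h4
  · have h5 : y * (γ * e)⁻¹ ∈ Subgroup.closure {a, γ * e} := by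
      apply h
      rw [Perm.mem_alternatingGroup, map_mul, Perm.sign_inv, h4, hs]
      rfl
    have h6 := mul_mem h5 (Subgroup.subset_closure (show γ * e ∈ ({a, γ * e} : Set (Perm (Fin n))) by simp))
    rwa [inv_mul_cancel_right] at h6

open Equiv Cfsg.Agent.CharactersDeep.SchurAltPerm in
theorem closure_alt {n : ℕ} (a s : alternatingGroup (Fin n)) (γ e : Perm (Fin n)) (o l c : Fin n)
    (hs : (s : Perm (Fin n)) = γ * e)
    (ha : (a : Perm (Fin n)) = x o l c) (hol : o ≠ l) (hoc : o ≠ c)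
    (hlc : l ≠ c) (h1 : γ o = o) (h2 : γ l = l)
    (h3 : ∀ c d, c ≠ o → c ≠ l → d ≠ o → d ≠ l → ∃ i : Fin n, (γ ^ (i : ℕ)) c = d)
    (he : e = 1 ∨ e = swap o l) : Subgroup.closure {a, s} = (⊤ : Subgroup (alternatingGroup (Fin n))) := by
  have h := TwoGen.alt_le hol hoc hlc γ e h1 h2 (fun c d x1 x2 x3 x4 => by
    obtain ⟨i, hi⟩ := h3 c d x1 x2 x3 x4
    exact ⟨((i : ℕ) : ℤ), by rw [zpow_natCast]; exact hi⟩) he
  rw [← ha, ← hs] at h
  rw [eq_top_iff]
  intro y _
  have h1 := h y.2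
  have e : Subgroup.closure ({(a : Perm (Fin n)), (s : Perm (Fin n))} : Set (Perm (Fin n))) =
      (Subgroup.closure ({a, s} : Set (alternatingGroup (Fin n)))).map (alternatingGroup (Fin n)).subtype := by
    rw [MonoidHom.map_closure, Set.image_pair]
    rfl
  rw [e] at h1
  obtain ⟨z, hz, hzy⟩ := h1
  rwa [← Subtype.ext hzy]

/-- the first generator of the free group of rank two -/
abbrev A : FreeGroup (Fin 2) := FreeGroup.of 0

/-- the second generator of the free group of rank two -/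
abbrev B : FreeGroup (Fin 2) := FreeGroup.of 1

/-- `(s * a) ^ m = 1` and `s ^ r = 1`: then `s ^ j ∈ M` if `m u = r v + j` -/
theorem pow_mem_of {Γ : Type*} [Group Γ] {M : Subgroup Γ} (hM : M.Normal) {a s : Γ} (ha : a ∈ M) (m r j u v : ℕ)
    (h : (s * a) ^ m = 1) (hr : s ^ r = 1) (huv : m * u = r * v + j) : s ^ j ∈ M := by
  have h1 := mul_pow_mem ha m h
  have h2 : s ^ (m * u) ∈ M := by rw [pow_mul]; exact pow_mem h1 u
  rw [huv, pow_add, pow_mul, hr, one_pow, one_mul] at h2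
  exact h2

section Concrete

open Equiv

theorem bound_wrap {Γ : Type*} [Group Γ] {c : ℕ} (j N : ℕ) (h : Finite Γ ∧ Nat.card Γ * 2 ≤ j * (N + 2).factorial)
    (hc : j * (N + 2).factorial ≤ c * 2) : Finite Γ ∧ Nat.card Γ ≤ c := ⟨h.1, by have := h.2; omega⟩

/-- relators of `A₃` -/
def relA3 : List (FreeGroup (Fin 2)) := [A ^ 3, B]

/-- relators of `S₃` -/
def relS3 : List (FreeGroup (Fin 2)) := [A ^ 3, B ^ 2, B⁻¹ * A⁻¹ * B * A⁻¹]

/-- relators of `A₄` -/
def relA4 : List (FreeGroup (Fin 2)) := [A ^ 3, B ^ 2, (B * A) ^ 3, (A * (B⁻¹ * A⁻¹ * B)) ^ 2]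

/-- relators of `S₄` -/
def relS4 : List (FreeGroup (Fin 2)) := [A ^ 3, B ^ 2, (A * (B⁻¹ * A * B)) ^ 2]

/-- relators of `A₅` -/
def relA5 : List (FreeGroup (Fin 2)) := [A ^ 3, B ^ 3, (B * A) ^ 5, (A * (B⁻¹ * A * B)) ^ 2]

/-- relators of `S₅` -/
def relS5 : List (FreeGroup (Fin 2)) :=
  [A ^ 3, B ^ 6, (B ^ 3)⁻¹ * A⁻¹ * B ^ 3 * A⁻¹, (B * A) ^ 4, (A * (B⁻¹ * A⁻¹ * B)) ^ 2]

/-- relators of `A₆` -/
def relA6 : List (FreeGroup (Fin 2)) :=
  [A ^ 3, B ^ 4, (B * A) ^ 5, (A * (B⁻¹ * A⁻¹ * B)) ^ 2, (A * ((B ^ 2)⁻¹ * A * B ^ 2)) ^ 2]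

/-- relators of `S₆` -/
def relS6 : List (FreeGroup (Fin 2)) :=
  [A ^ 3, B ^ 4, (B * A) ^ 6, (A * (B⁻¹ * A * B)) ^ 2, (A * ((B ^ 2)⁻¹ * A * B ^ 2)) ^ 2]

variable {Γ : Type*} [Group Γ] (y : Fin 2 → Γ) (hy : Subgroup.closure (Set.range y) = ⊤)

include hy

theorem relA3_bound (h : ∀ r ∈ relA3, FreeGroup.lift y r = 1) : Finite Γ ∧ Nat.card Γ ≤ 3 := by
  simp only [relA3, List.mem_cons, List.not_mem_nil, or_false, forall_eq_or_imp, forall_eq, map_pow,
    FreeGroup.lift_apply_of, A, B] at h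
  obtain ⟨h1, h2⟩ := h
  rw [range_fin_two, h2] at hy
  refine bound_wrap 1 1 (card_le_of_carmichael (y 0) 1 1 (Or.inl rfl) 1 (by norm_num) h1 (by simp [xs])
      (fun k _ _ => by omega) 1 one_pos (fun M _ _ => by simp [one_mem]) hy) (by decide)

theorem relS2_bound (h : ∀ r ∈ [A ^ 2, B], FreeGroup.lift y r = 1) : Finite Γ ∧ Nat.card Γ ≤ 2 := by
  simp only [List.mem_cons, List.not_mem_nil, or_false, forall_eq_or_imp, forall_eq, map_pow,
    FreeGroup.lift_apply_of, A, B] at h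
  rw [range_fin_two, h.2] at hy
  have h1 : Subgroup.zpowers (y 0) = ⊤ := by
    rw [eq_top_iff, ← hy, Subgroup.closure_le]
    rintro g (hg | hg)
    · rw [hg]; exact Subgroup.mem_zpowers _
    · rw [Set.mem_singleton_iff] at hg
      rw [hg]; exact one_mem _
  have hfo : IsOfFinOrder (y 0) := isOfFinOrder_iff_pow_eq_one.2 ⟨2, two_pos, h.1⟩
  have hc : Nat.card Γ = orderOf (y 0) := by
    rw [← Nat.card_zpowers, h1, Subgroup.card_top]
  have hle := orderOf_le_of_pow_eq_one two_pos h.1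
  have hpos := hfo.orderOf_pos
  rw [← hc] at hle hpos
  exact ⟨(Nat.card_pos_iff.1 hpos).2, hle⟩

theorem relS3_bound (h : ∀ r ∈ relS3, FreeGroup.lift y r = 1) : Finite Γ ∧ Nat.card Γ ≤ 6 := by
  simp only [relS3, List.mem_cons, List.not_mem_nil, or_false, forall_eq_or_imp, forall_eq, map_mul, map_pow, map_inv,
    FreeGroup.lift_apply_of, A, B] at h
  obtain ⟨h1, h2, h3⟩ := h
  rw [range_fin_two] at hy
  refine bound_wrap 2 1 (card_le_of_carmichael (y 0) (y 1) (-1) (Or.inr rfl) 1 (by norm_num) h1 ?_ ?_ 2 two_pos ?_ hy)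
    (by decide)
  · simpa [xs, mul_inv_eq_one] using h3
  · intro k hk hk'
    omega
  · intro M hM ha
    rw [h2]; exact one_mem _

theorem relA4_bound (h : ∀ r ∈ relA4, FreeGroup.lift y r = 1) : Finite Γ ∧ Nat.card Γ ≤ 12 := by
  simp only [relA4, List.mem_cons, List.not_mem_nil, or_false, forall_eq_or_imp, forall_eq, map_mul, map_pow, map_inv,
    FreeGroup.lift_apply_of, A, B] at h
  obtain ⟨h1, h2, h3, h4⟩ := h
  rw [range_fin_two] at hy
  refine bound_wrap 1 2 (card_le_of_carmichael (y 0) (y 1) (-1) (Or.inr rfl) 2 (by norm_num) h1 ?_ ?_ 1 one_pos ?_ hy)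
    (by decide)
  · simp [xs, h2]
  · intro k hk hk'
    have : k = 1 := by omega
    subst this
    simpa [xs] using h4
  · intro M hM ha
    exact pow_mem_of hM ha 3 2 1 1 1 h3 h2 rfl

theorem relS4_bound (h : ∀ r ∈ relS4, FreeGroup.lift y r = 1) : Finite Γ ∧ Nat.card Γ ≤ 24 := by
  simp only [relS4, List.mem_cons, List.not_mem_nil, or_false, forall_eq_or_imp, forall_eq, map_mul, map_pow, map_inv,
    FreeGroup.lift_apply_of, A, B] at h
  obtain ⟨h1, h2, h4⟩ := h
  rw [range_fin_two] at hy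
  refine bound_wrap 2 2 (card_le_of_carmichael (y 0) (y 1) 1 (Or.inl rfl) 2 (by norm_num) h1 ?_ ?_ 2 two_pos ?_ hy)
    (by decide)
  · simp [xs, h2]
  · intro k hk hk'
    have : k = 1 := by omega
    subst this
    simpa [xs] using h4
  · intro M hM ha
    rw [h2]; exact one_mem _

theorem relA5_bound (h : ∀ r ∈ relA5, FreeGroup.lift y r = 1) : Finite Γ ∧ Nat.card Γ ≤ 60 := by
  simp only [relA5, List.mem_cons, List.not_mem_nil, or_false, forall_eq_or_imp, forall_eq, map_mul, map_pow, map_inv,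
    FreeGroup.lift_apply_of, A, B] at h
  obtain ⟨h1, h2, h3, h4⟩ := h
  rw [range_fin_two] at hy
  refine bound_wrap 1 3 (card_le_of_carmichael (y 0) (y 1) 1 (Or.inl rfl) 3 (by norm_num) h1 ?_ ?_ 1 one_pos ?_ hy)
    (by decide)
  · simp [xs, h2]
  · intro k hk hk'
    have : k = 1 := by omega
    subst this
    simpa [xs] using h4
  · intro M hM ha
    exact pow_mem_of hM ha 5 3 1 2 3 h3 h2 rfl

theorem relS5_bound (h : ∀ r ∈ relS5, FreeGroup.lift y r = 1) : Finite Γ ∧ Nat.card Γ ≤ 120 := by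
  simp only [relS5, List.mem_cons, List.not_mem_nil, or_false, forall_eq_or_imp, forall_eq, map_mul, map_pow, map_inv,
    FreeGroup.lift_apply_of, A, B] at h
  obtain ⟨h1, h2, h5, h3, h4⟩ := h
  rw [range_fin_two] at hy
  refine bound_wrap 2 3 (card_le_of_carmichael (y 0) (y 1) (-1) (Or.inr rfl) 3 (by norm_num) h1 ?_ ?_ 2 two_pos ?_ hy)
    (by decide)
  · rw [xs]
    norm_num
    rw [← mul_inv_eq_one]
    exact h5
  · intro k hk hk'
    have : k = 1 := by omega
    subst this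
    simpa [xs] using h4
  · intro M hM ha
    exact pow_mem_of hM ha 4 6 2 2 1 h3 h2 rfl

theorem relA6_bound (h : ∀ r ∈ relA6, FreeGroup.lift y r = 1) : Finite Γ ∧ Nat.card Γ ≤ 360 := by
  simp only [relA6, List.mem_cons, List.not_mem_nil, or_false, forall_eq_or_imp, forall_eq, map_mul, map_pow, map_inv,
    FreeGroup.lift_apply_of, A, B] at h
  obtain ⟨h1, h2, h3, h4, h5⟩ := h
  rw [range_fin_two] at hy
  refine bound_wrap 1 4 (card_le_of_carmichael (y 0) (y 1) (-1) (Or.inr rfl) 4 (by norm_num) h1 ?_ ?_ 1 one_pos ?_ hy)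
    (by decide)
  · rw [xs, h2]; norm_num
  · intro k hk hk'
    obtain rfl | rfl : k = 1 ∨ k = 2 := by omega
    · simpa [xs] using h4
    · rw [xs]; norm_num; exact h5
  · intro M hM ha
    exact pow_mem_of hM ha 5 4 1 1 1 h3 h2 rfl

theorem relS6_bound (h : ∀ r ∈ relS6, FreeGroup.lift y r = 1) : Finite Γ ∧ Nat.card Γ ≤ 720 := by
  simp only [relS6, List.mem_cons, List.not_mem_nil, or_false, forall_eq_or_imp, forall_eq, map_mul, map_pow, map_inv,
    FreeGroup.lift_apply_of, A, B] at h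
  obtain ⟨h1, h2, h3, h4, h5⟩ := h
  rw [range_fin_two] at hy
  refine bound_wrap 2 4 (card_le_of_carmichael (y 0) (y 1) 1 (Or.inl rfl) 4 (by norm_num) h1 ?_ ?_ 2 two_pos ?_ hy)
    (by decide)
  · rw [xs, h2]; norm_num
  · intro k hk hk'
    obtain rfl | rfl : k = 1 ∨ k = 2 := by omega
    · simpa [xs] using h4
    · rw [xs]; norm_num; exact h5
  · intro M hM ha
    exact pow_mem_of hM ha 6 4 2 1 1 h3 h2 rfl

end Concrete

end Cfsg.Agent.H173.Pres
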